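import Groth.Agent.CurvesC.Asm1673
import Groth.Agent.CurvesC.DualDegForm
import Groth.Agent.CurvesC.TailUnion
import Groth.Agent.CurvesC.DegTail519
import Groth.Agent.CurvesC.CompGeom
import Groth.Agent.CurvesC.DualSetup
import Groth.Agent.CurvSt.K897.CanonVan
import Groth.Agent.Curves.K326.SemiMain
import Groth.Agent.S0458

/-!
# The dualizing module of a connected nodal curve over a field: rational tails and global generation
-/

set_option autoImplicit false
universe u
open CategoryTheory CategoryTheory.Limits AlgebraicGeometry TopologicalSpace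

namespace K326.CanonField

open Groth.Agent Groth.Agent.CurvesC Groth.Agent.CurvesC.DualCount Groth.Agent.CurvesC.TailGeom

variable (k : Type u) [Field k] (X : Scheme.{u}) [X.Over (Spec (CommRingCat.of k))]
  [IsProper (X ↘ (Spec (CommRingCat.of k)))]

/-- Without rational tails: `w` is trivial in genus one; in genus at least two the powers `w^m`, `m ≥ 2`, are globally
generated without first cohomology. -/
theorem main (hdim : topologicalKrullDim X = 1)
    (h0 : Module.finrank k (Coh.HH X (Coh.structureModule X) 0) = 1) (hX : Curv2.AtWorstNodal k X)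
    (hnt : ∀ (C : Set X) (hC : C ∈ irreducibleComponents (X : Type u)), ¬ Curv2.IsRationalTail X C hC)
    {w : X.Modules} (hw : PicF.IsInvertible w) {t : Coh.HH X w 1 →ₗ[k] k} (ht : IsPair k t) :
    (Curv2.genus k X = 1 → Nonempty (w ≅ Coh.structureModule X)) ∧
      (2 ≤ Curv2.genus k X → ∀ m : ℕ, 2 ≤ m → Curv2.IsGloballyGenerated (CohB1.tensorPow w m) ∧
        Subsingleton (Coh.HH X (CohB1.tensorPow w m) 1)) := by
  have := GenusOne512.isReduced_of_atWorstNodal k X hX
  have := GenusOne512.connectedSpace_of_h0 k X h0
  have := CurveCoh.noetherianSpace k X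
  have hform : ∀ J : X.IdealSheafData, IsReduced J.subscheme →
      (∀ Z ∈ irreducibleComponents (J.subscheme : Type u), topologicalKrullDim Z = 1) →
        TailMain.DegFormula k X w J := by
    intro J _ hJ
    have h1 := DualDegForm.deg_form k hdim w hw ht J.support (TailUnion.subset_closure_interior hdim.le J hJ)
    rw [← TailUnion.eq_vanishingIdeal J] at h1
    exact h1
  have h2 := Asm1673.main k X hdim h0 hX hnt w hw t ht hform
  exact ⟨h2.1, fun hg m hm => ⟨h2.2 hg m hm, K897.CanonVan.H1_pow k X hdim h0 w hw hform hnt hg m hm⟩⟩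

include k in
/-- Cohomology above degree one vanishes on a proper curve. -/
theorem subsingleton_two_le (hdim : topologicalKrullDim X = 1) (L : X.Modules) (n : ℕ) (hn : 2 ≤ n) :
    Subsingleton (Coh.HH X L n) := by
  have := CurveCoh.noetherianSpace k X
  exact S0458.result 1 (by rw [hdim]; rfl) _ n hn

/-- `h¹(w) = 1`. -/
theorem finrank_H1 (h0 : Module.finrank k (Coh.HH X (Coh.structureModule X) 0) = 1)
    {w : X.Modules} (hw : PicF.IsInvertible w) {t : Coh.HH X w 1 →ₗ[k] k} (ht : IsPair k t) :
    Module.finrank k (Coh.HH X w 1) = 1 := by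
  rw [← DualSetup.h0_unit hw ht (Ega2.QCohLocal.isQCoh_of_isInvertible hw)]
  exact h0

attribute [local instance] TailNum.subOver in
/-- If a positive power of `w` is globally generated there is no rational tail. -/
theorem not_tail_of_gg (hdim : topologicalKrullDim X = 1)
    (h0 : Module.finrank k (Coh.HH X (Coh.structureModule X) 0) = 1) (hX : Curv2.AtWorstNodal k X)
    {w : X.Modules} (hw : PicF.IsInvertible w) {t : Coh.HH X w 1 →ₗ[k] k} (ht : IsPair k t)
    {m : ℕ} (hm : 0 < m) (hgg : Curv2.IsGloballyGenerated (CohB1.tensorPow w m))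
    (C : Set X) (hC : C ∈ irreducibleComponents (X : Type u)) : ¬ Curv2.IsRationalTail X C hC := by
  intro hT
  have := GenusOne512.isReduced_of_atWorstNodal k X hX
  have := GenusOne512.connectedSpace_of_h0 k X h0
  have := CurveCoh.noetherianSpace k X
  have hpure := TailMain.pure_of_connected X hdim
  have h1 := DegTail519.tail_neg k hdim w hw ht C hC hT
  have hint : IsIntegral (compIdeal C hC).subscheme := CompGeom.isIntegral_C X C hC
  have hP : IsProper ((compIdeal C hC).subscheme ↘ Spec (CommRingCat.of k)) :=
    inferInstanceAs (IsProper ((compIdeal C hC).subschemeι ≫ (X ↘ (Spec (CommRingCat.of k)))))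
  have hd : topologicalKrullDim (compIdeal C hC).subscheme = 1 := K326.SemiStab.dim_comp X hC (hpure C hC)
  have h2 := K326.SemiMain.deg_nonneg_of_gg k (compIdeal C hC).subscheme hd
    ((Scheme.Modules.pullback (compIdeal C hC).subschemeι).obj (CohB1.tensorPow w m))
    (Fdesc.LocGen.isInvertible_pullback _ (Fdesc.LocGen.isInvertible_tensorPow hw m))
    (VarietyB.GGStalk.isGloballyGenerated_pullback _ _ hgg)
  rw [CanonGG.deg_restrict_pow k X w hw (compIdeal C hC) hd.le m] at h2
  have h3 : (0 : ℤ) < m := by exact_mod_cast hm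
  have h4 : Curv2.deg k (compIdeal C hC).subscheme ((Scheme.Modules.pullback (compIdeal C hC).subschemeι).obj w) 1 < 0 := h1
  exact absurd h2 (mul_neg_of_pos_of_neg h3 h4).not_ge

end K326.CanonField
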