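import Groth.Agent.CurvSt.K326.GGNear
import Groth.Agent.S10869
import Groth.Agent.FormalA.PullbackQC
import Groth.Agent.Fdesc.LocGenTensor

/-!
# Counit epimorphisms and global generation

* `gg_fibre_of_epi`: if the restriction over `f⁻¹ U` of the counit at `L` is an epimorphism then the restriction of `L`
  to the fibre over every point of `U` is globally generated.
* `gg_pow`: powers of globally generated invertible modules are globally generated.
-/

set_option autoImplicit false
universe u
open CategoryTheory CategoryTheory.Limits AlgebraicGeometry TopologicalSpace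

namespace K326.CounitFibre

open Groth.Agent Fdesc.LocGen

theorem isPullback_fiber {X S : Scheme.{u}} (f : X ⟶ S) (s : S) :
    IsPullback (f.fiberι s) (f.fiberToSpecResidueField s) f (S.fromSpecResidueField s) :=
  IsPullback.of_hasPullback _ _

theorem fiberι_apply {X S : Scheme.{u}} (f : X ⟶ S) (s : S) (y : f.fiber s) : f (f.fiberι s y) = s := by
  have h1 : f (f.fiberι s y) ∈ Set.range (S.fromSpecResidueField s) :=
    ⟨f.fiberToSpecResidueField s y, by
      rw [← Scheme.Hom.comp_apply, ← (isPullback_fiber f s).w, Scheme.Hom.comp_apply]⟩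
  rw [Scheme.range_fromSpecResidueField] at h1
  exact h1

theorem gg_fibre_of_epi {X S : Scheme.{u}} (f : X ⟶ S) [QuasiCompact f] [QuasiSeparated f] {L : X.Modules}
    (hL : Coh.IsQCoh L) {s : S} {U : S.Opens} (hs : s ∈ U)
    (h : Epi ((Scheme.Modules.restrictFunctor (f ⁻¹ᵁ U).ι).map
      ((Scheme.Modules.pullbackPushforwardAdjunction f).counit.app L))) :
    Curv2.IsGloballyGenerated ((Scheme.Modules.pullback (f.fiberι s)).obj L) := by
  let c := (Scheme.Modules.pullbackPushforwardAdjunction f).counit.app L
  let j := (f ⁻¹ᵁ U).ι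
  have hr : Set.range (f.fiberι s) ⊆ Set.range j := by
    rintro _ ⟨y, rfl⟩
    rw [Scheme.Opens.range_ι]
    change f (f.fiberι s y) ∈ U
    rw [fiberι_apply]
    exact hs
  let j' : f.fiber s ⟶ (f ⁻¹ᵁ U).toScheme := IsOpenImmersion.lift j (f.fiberι s) hr
  have hj' : j' ≫ j = f.fiberι s := IsOpenImmersion.lift_fac _ _ _
  let N : Scheme.Modules.restrictFunctor j ⋙ Scheme.Modules.pullback j' ≅ Scheme.Modules.pullback (f.fiberι s) :=
    Functor.isoWhiskerRight (Scheme.Modules.restrictFunctorIsoPullback j) (Scheme.Modules.pullback j') ≪≫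
      Scheme.Modules.pullbackComp j' j ≪≫ Scheme.Modules.pullbackCongr hj'
  have h1 : Epi ((Scheme.Modules.pullback j').map ((Scheme.Modules.restrictFunctor j).map c)) := by
    have : Epi ((Scheme.Modules.restrictFunctor j).map c) := h
    infer_instance
  have h2 : Epi ((Scheme.Modules.pullback (f.fiberι s)).map c) := by
    have h3 : (Scheme.Modules.pullback (f.fiberι s)).map c = N.inv.app _ ≫
        (Scheme.Modules.pullback j').map ((Scheme.Modules.restrictFunctor j).map c) ≫ N.hom.app _ := by
      have h4 := N.hom.naturality c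
      dsimp only [Functor.comp_map] at h4
      rw [h4, Iso.inv_hom_id_app_assoc]
    rw [h3]
    have h5 : Epi ((Scheme.Modules.pullback j').map ((Scheme.Modules.restrictFunctor j).map c) ≫ N.hom.app _) :=
      epi_comp _ _
    exact epi_comp _ _
  let G := (Scheme.Modules.pushforward f).obj L
  have hG : Coh.IsQCoh G := Ega1.QcqsPush.isQCoh_pushforward f L hL
  let t := S.fromSpecResidueField s
  let q := f.fiberToSpecResidueField s
  have hGt : Coh.IsQCoh ((Scheme.Modules.pullback t).obj G) := FormalA.PullbackQC.isQCoh_pullback t G hG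
  have h6 := S10869.isGloballyGenerated_of_isAffine _ hGt
  have h7 := VarietyB.GGStalk.isGloballyGenerated_pullback q _ h6
  let e : (Scheme.Modules.pullback q).obj ((Scheme.Modules.pullback t).obj G) ≅
      (Scheme.Modules.pullback (f.fiberι s)).obj ((Scheme.Modules.pullback f).obj G) :=
    (Scheme.Modules.pullbackComp q t).app G ≪≫
      (Scheme.Modules.pullbackCongr (isPullback_fiber f s).w.symm).app G ≪≫
      ((Scheme.Modules.pullbackComp (f.fiberι s) f).app G).symm
  have h8 := Ega2.GlobGenCrit.isGloballyGenerated_of_iso e h7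
  exact S10869.isGloballyGenerated_of_epi ((Scheme.Modules.pullback (f.fiberι s)).map c) h8

/-- Powers of a globally generated invertible module. -/
theorem gg_pow {X : Scheme.{u}} {L : X.Modules} (hL : PicF.IsInvertible L)
    (h : Curv2.IsGloballyGenerated L) (n : ℕ) : Curv2.IsGloballyGenerated (CohB1.tensorPow L n) := by
  have key : ∀ (n : ℕ) (x : X), ∃ (U : X.Opens) (s : Γ(CohB1.tensorPow L n, ⊤)), x ∈ U ∧
      IsGen (res (CohB1.tensorPow L n) (le_top : U ≤ ⊤) s) := by
    intro n
    induction n with
    | zero =>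
      intro x
      refine ⟨⊤, one ⊤, trivial, ?_⟩
      have h1 : IsGen (res (Coh.structureModule X) (le_top : (⊤ : X.Opens) ≤ ⊤) (one ⊤)) := by
        rw [res_refl]
        exact isGen_one ⊤
      exact h1
    | succ n ih =>
      intro x
      obtain ⟨U, s, hx, hs⟩ := ih x
      obtain ⟨t, ht⟩ := Ega1.GlobGenPt.exists_mem_genLocus hL h x
      obtain ⟨V, hxV, hV⟩ := (mem_genLocus_iff t x).1 ht
      refine ⟨U ⊓ V, tmul s (sec t ⊤), ⟨hx, hxV⟩, ?_⟩
      have h1 : IsGen (res (CohB1.tensorMod (CohB1.tensorPow L n) L) (le_top : U ⊓ V ≤ ⊤) (tmul s (sec t ⊤))) := by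
        rw [res_tmul]
        refine IsGen.tmul ?_ ?_
        · rw [← res_res (CohB1.tensorPow L n) le_top (inf_le_left : U ⊓ V ≤ U)]
          exact hs.res _
        · rw [res_sec, ← res_sec t (inf_le_right : U ⊓ V ≤ V)]
          exact hV.res _
      exact h1
  choose U s hx hs using key n
  refine VarietyB.GlobGen.isGloballyGenerated_of_cover (fun x => homOf (s x)) fun x => ⟨x, ?_⟩
  rw [mem_genLocus_iff]
  exact ⟨U x, hx x, by rw [sec_homOf]; exact hs x⟩

end K326.CounitFibre
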