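import Groth.Agent.Canon.K769.Exist
import Groth.Agent.Deform.K682.RelDual
import Groth.Agent.FormalB.HHLin

/-!
# The trace on `H^n(X, ω)` from the universal property of `ω[n]`, over an arbitrary affine base

`X` quasi-compact and quasi-separated over `Spec A`, `ω[n]` representing `N ↦ Hom(Rf_* N, O)`: there is a trace
`t : H^n(X, ω) → A` such that `φ ↦ t ∘ H^n(φ)` is bijective from `Hom(F, ω)` to `Hom_A(H^n(X, F), A)` for all
quasi-coherent `F` with `R^q f_* F = 0` for `q > n`.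
-/

set_option autoImplicit false
universe u
open CategoryTheory CategoryTheory.Limits AlgebraicGeometry
attribute [local instance] HasDerivedCategory.standard

namespace K326.RepUniv

open Groth.Agent Groth.Agent.Ega1.ADualUniv K682.RelDual DerivedCategory

variable (A : Type u) [CommRing A] {X : Scheme.{u}} [X.Over (Spec (CommRingCat.of A))]
  [DCoh.HasRpush (X ↘ Spec (CommRingCat.of A))]

/-- Quasi-coherent modules without direct images in degrees above `n`. -/
def Low (n : ℕ) (F : X.Modules) : Prop :=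
  Coh.IsQCoh F ∧ ((DCoh.Rpush (X ↘ Spec (CommRingCat.of A))).obj
    ((DerivedCategory.singleFunctor X.Modules (-(n : ℤ))).obj F)).IsLE 0

theorem low_of_van [QuasiCompact (X ↘ Spec (CommRingCat.of A))] [QuasiSeparated (X ↘ Spec (CommRingCat.of A))]
    {n : ℕ} {F : X.Modules} (hF : Coh.IsQCoh F) (hv : ∀ p : ℕ, n < p → Subsingleton (Coh.HH X F p)) :
    Low A n F := by
  have : HasInjectiveResolutions X.Modules := inferInstance
  refine ⟨hF, ?_⟩
  have h := LoccohB.TopRepBound.isLE_rpush_single (f := X ↘ Spec (CommRingCat.of A)) F n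
    (fun p hp => CohqB.RelVan.isZero_Rpush (X ↘ Spec (CommRingCat.of A)) F hF p (hv p hp)) (-(n : ℤ))
  rwa [show -(n : ℤ) + n = 0 by omega] at h

theorem exists_trace [QuasiCompact (X ↘ Spec (CommRingCat.of A))] [QuasiSeparated (X ↘ Spec (CommRingCat.of A))]
    {n : ℕ} {L : X.Modules} (h : IsRD (X ↘ Spec (CommRingCat.of A)) n L) :
    ∃ t : Coh.HH X L n →ₗ[A] A, ∀ F : X.Modules, Low A n F → ∀ ψ : Coh.HH X F n →ₗ[A] A,
      ∃! φ : F ⟶ L, ∀ x : Coh.HH X F n,
        ψ x = t (Sheaf.H.map ((SheafOfModules.toSheaf X.ringCatSheaf).map φ) n x) := by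
  let e : (DCoh.inD X L)⟦(n : ℤ)⟧ ≅ (DerivedCategory.singleFunctor X.Modules (-(n : ℤ))).obj L :=
    ((DerivedCategory.singleFunctors X.Modules).shiftIso (n : ℤ) (-(n : ℤ)) 0 (by omega)).app L
  obtain ⟨τ, hτ⟩ := Univ.of_iso_left h e (PerfA.QCohD.isQCohD_of_iso e h.qcoh)
  let O : DCoh.D (Spec (CommRingCat.of A)) := DCoh.inD (Spec (CommRingCat.of A)) (Coh.structureModule _)
  have hGE : O.IsGE 0 := K769.Exist.isGE_O A ⟨O, PerfA.QCohD.isQCohD_inD _
    (Fdesc.StructMod.isQCoh_structureModule _)⟩ ⟨Iso.refl _⟩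
  refine LoccohB.TopBridge540.represent' A (-(n : ℤ)) 0 n (by omega) _ _
    (K769.Exist.ΓHDIso A O (Iso.refl _)) L ((DerivedCategory.homologyFunctor _ 0).map τ) (Low A n)
    (fun F hF => LoccohB.TopRepBound.isQCohD_single hF.1 _) (fun F hF => ?_)
  have hLE := hF.2
  have h1 : Function.Bijective (fun φ : F ⟶ L => (DerivedCategory.singleFunctor X.Modules (-(n : ℤ))).map φ) :=
    ⟨Functor.map_injective _, Functor.map_surjective _⟩
  have h2 := hτ.bij _ (LoccohB.TopRepBound.isQCohD_single hF.1 (-(n : ℤ)))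
  have h3 : Function.Bijective (fun g : (DCoh.Rpush (X ↘ Spec (CommRingCat.of A))).obj
      ((DerivedCategory.singleFunctor X.Modules (-(n : ℤ))).obj F) ⟶ O =>
      (DerivedCategory.homologyFunctor _ 0).map g) :=
    (LoccohB.DCalc.homEquiv 0 _ _).bijective
  have h4 := h3.comp (h2.comp h1)
  have key : ∀ φ : F ⟶ L, (LoccohB.TopBridge540.RM A (-(n : ℤ)) 0).map φ ≫
      (DerivedCategory.homologyFunctor _ 0).map τ = (DerivedCategory.homologyFunctor _ 0).map
        ((DCoh.Rpush (X ↘ Spec (CommRingCat.of A))).map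
          ((DerivedCategory.singleFunctor X.Modules (-(n : ℤ))).map φ) ≫ τ) := fun φ =>
    ((DerivedCategory.homologyFunctor _ 0).map_comp _ _).symm
  constructor
  · intro φ ψ hφψ
    exact h4.1 ((key φ).symm.trans (hφψ.trans (key ψ)))
  · intro y
    obtain ⟨φ, hφ⟩ := h4.2 y
    exact ⟨φ, (key φ).trans hφ⟩

/-- An endomorphism of `ω` that kills `H^n(X, ω)` is zero. -/
theorem eq_zero_of_HH [QuasiCompact (X ↘ Spec (CommRingCat.of A))] [QuasiSeparated (X ↘ Spec (CommRingCat.of A))]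
    {n : ℕ} {L : X.Modules} (h : IsRD (X ↘ Spec (CommRingCat.of A)) n L) {F : X.Modules} (hF : Low A n F)
    (φ : F ⟶ L) (hφ : ∀ x : Coh.HH X F n, Sheaf.H.map ((SheafOfModules.toSheaf X.ringCatSheaf).map φ) n x = 0) :
    φ = 0 := by
  obtain ⟨t, ht⟩ := exists_trace A h
  obtain ⟨φ', -, h2⟩ := ht F hF 0
  refine (h2 φ fun x => ?_).trans (h2 0 fun x => ?_).symm
  · rw [hφ, map_zero]
    rfl
  · have h3 : (SheafOfModules.toSheaf X.ringCatSheaf).map (0 : F ⟶ L) = 0 := Functor.map_zero _ _ _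
    rw [h3]
    have h4 : Sheaf.H.map (0 : (SheafOfModules.toSheaf X.ringCatSheaf).obj F ⟶
        (SheafOfModules.toSheaf X.ringCatSheaf).obj L) n x = 0 :=
      FormalB.HHLin.gmap_zero n x
    rw [h4, map_zero]
    rfl

end K326.RepUniv
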