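import Groth.Agent.CurvSt.K326.TopBC
import Groth.Agent.CurvSt.K326.RepUniv
import Groth.Agent.CurvSt.K897.LiftGG
import Groth.Agent.LoccohB.HHmap

/-!
# The top cohomology of the relative dualizing sheaf over a local ring

`p : X → Spec R` proper, flat, of finite presentation, surjective, over a local ring `R`, `ω` invertible with
`p^! O = ω[1]`, and `h¹(X₀, ω₀) = 1`, `H^q(X₀, ω₀) = 0` for `q ≥ 2` on the closed fibre.  Then `H¹(X, ω)` is free of rank
one and `H^q(X, ω) = 0` for `q ≥ 2`.
-/

set_option autoImplicit false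
universe u
open CategoryTheory CategoryTheory.Limits AlgebraicGeometry TopologicalSpace
attribute [local instance] HasDerivedCategory.standard

open scoped TensorProduct

namespace K326.OmegaTop

open Groth.Agent Fdesc.LocGen K682.RelDual

section Alg

/-- A finite module over a local ring which is of rank at most one modulo the maximal ideal and faithful is flat. -/
theorem flat_of_finrank {R : Type u} {M : Type u} [CommRing R] [IsLocalRing R] [AddCommGroup M] [Module R M]
    [Module.Finite R M] (h1 : Module.finrank (IsLocalRing.ResidueField R) (IsLocalRing.ResidueField R ⊗[R] M) = 1)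
    (ha : ∀ a : R, (∀ x : M, a • x = 0) → a = 0) : Module.Flat R M := by
  let k := IsLocalRing.ResidueField R
  let b := Module.finBasisOfFinrankEq k (k ⊗[R] M) h1
  obtain ⟨x, hx⟩ := TensorProduct.mk_surjective R M k IsLocalRing.residue_surjective (b 0)
  have hs : Submodule.span R (Set.range fun _ : Fin 1 => x) = ⊤ := by
    refine IsLocalRing.span_eq_top_of_tmul_eq_basis (fun _ : Fin 1 => x) b fun i => ?_
    obtain rfl : i = 0 := Subsingleton.elim _ _
    exact hx
  rw [Set.range_const] at hs
  have hsur : Function.Surjective (LinearMap.toSpanSingleton R M x) := by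
    rw [← LinearMap.range_eq_top, LinearMap.range_toSpanSingleton]
    exact hs
  have hinj : Function.Injective (LinearMap.toSpanSingleton R M x) := by
    rw [injective_iff_map_eq_zero]
    intro a hax
    refine ha a fun y => ?_
    obtain ⟨r, rfl⟩ := hsur y
    rw [LinearMap.toSpanSingleton_apply] at hax ⊢
    rw [smul_comm, hax, smul_zero]
  exact Module.Flat.of_linearEquiv (LinearEquiv.ofBijective _ ⟨hinj, hsur⟩).symm

end Alg

section Fun

/-- Multiplication by a function on an invertible module is zero only if the function is zero. -/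
theorem eq_zero_of_smulHom {X : Scheme.{u}} {L : X.Modules} (hL : PicF.IsInvertible L) (r : Γ(X, ⊤))
    (h : LoccohB.HHmap.smulHom L r = 0) : r = 0 := by
  refine TopCat.Presheaf.section_ext X.sheaf ⊤ r 0 fun x hx => ?_
  obtain ⟨U, e, hxU, he⟩ := (isInvertible_iff L).1 hL x
  have h1 : (LoccohB.HHmap.smulHom L r).app U e = 0 := by
    rw [h]
    rfl
  rw [LoccohB.HHmap.smulHom_app] at h1
  have h2 : (LoccohB.GlueHom.resO (le_top : U ≤ ⊤) r : Γ(X, U)) = 0 := by
    apply he.ext
    rw [h1, zero_smul]
  have h3 : X.presheaf.germ U x hxU (LoccohB.GlueHom.resO (le_top : U ≤ ⊤) r) = X.presheaf.germ ⊤ x hx r :=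
    X.presheaf.germ_res_apply (homOfLE (le_top : U ≤ ⊤)) x hxU r
  have h4 : X.presheaf.germ ⊤ x hx r = 0 := by
    rw [← h3, h2, map_zero]
  exact h4.trans (map_zero (X.presheaf.germ ⊤ x hx).hom).symm

theorem appTop_injective {W W' : Scheme.{u}} (w : W' ⟶ W) [Flat w] [Surjective w] (s : Γ(W, ⊤))
    (hs : w.appTop s = 0) : s = 0 := by
  refine TopCat.Presheaf.section_ext W.sheaf ⊤ s 0 fun x hx => ?_
  obtain ⟨x', rfl⟩ := w.surjective x
  have h1 : (w.stalkMap x').hom.Flat := Flat.stalkMap w x'
  algebraize [(w.stalkMap x').hom]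
  have hl : IsLocalHom (algebraMap (W.presheaf.stalk (w x')) (W'.presheaf.stalk x')) :=
    inferInstanceAs (IsLocalHom (w.stalkMap x').hom)
  have h2 := Module.FaithfullyFlat.of_flat_of_isLocalHom
      (A := W.presheaf.stalk (w x')) (B := W'.presheaf.stalk x')
  have h3 : Function.Injective (w.stalkMap x').hom :=
    FaithfulSMul.algebraMap_injective (W.presheaf.stalk (w x')) (W'.presheaf.stalk x')
  have h4 := congrArg (fun φ => φ.hom s) (Scheme.Hom.germ_stalkMap w ⊤ x' trivial)
  simp only [CommRingCat.hom_comp, RingHom.comp_apply] at h4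
  have h5 : (w.app ⊤).hom s = 0 := hs
  rw [h5, map_zero] at h4
  have h6 : (W.presheaf.germ ⊤ (w x') trivial).hom s = 0 := h3 (h4.trans (map_zero _).symm)
  exact h6.trans (map_zero (W.presheaf.germ ⊤ (w x') trivial).hom).symm

theorem toGlobal_injective {A : Type u} [CommRing A] {X : Scheme.{u}} (p : X ⟶ Spec (CommRingCat.of A)) [Flat p]
    [Surjective p] (a : A) (h : Coh.toGlobal p a = 0) : a = 0 := by
  have h1 : p.appTop ((Scheme.ΓSpecIso (CommRingCat.of A)).inv a) = 0 := h
  have h2 := appTop_injective p _ h1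
  exact (ConcreteCategory.bijective_of_isIso (Scheme.ΓSpecIso (CommRingCat.of A)).inv).1 (h2.trans (map_zero _).symm)

end Fun

/-- **Flatness of the cohomology of the relative dualizing sheaf over a local ring.** -/
theorem flat {R : Type u} [CommRing R] [IsLocalRing R] {X X₀ : Scheme.{u}} (p : X ⟶ Spec (CommRingCat.of R))
    [IsProper p] [Flat p] [LocallyOfFinitePresentation p] [Surjective p] [DCoh.HasRpush p] {i : X₀ ⟶ X}
    {q : X₀ ⟶ Spec (CommRingCat.of (IsLocalRing.ResidueField R))}
    (hc : IsPullback i q p (Spec.map (CommRingCat.ofHom (IsLocalRing.residue R))))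
    {ω : X.Modules} (hω : PicF.IsInvertible ω) (hRD : IsRD p 1 ω)
    (hv : ∀ n : ℕ, 2 ≤ n → Subsingleton (Coh.HH X₀ ((Scheme.Modules.pullback i).obj ω) n))
    (h1 : letI : X₀.Over (Spec (CommRingCat.of (IsLocalRing.ResidueField R))) := ⟨q⟩
      Module.finrank (IsLocalRing.ResidueField R) (Coh.HH X₀ ((Scheme.Modules.pullback i).obj ω) 1) = 1) :
    letI : X.Over (Spec (CommRingCat.of R)) := ⟨p⟩
    ∀ n : ℕ, 1 ≤ n → Module.Flat R (Coh.HH X ω n) := by
  let _ : X.Over (Spec (CommRingCat.of R)) := ⟨p⟩
  let _ : X₀.Over (Spec (CommRingCat.of (IsLocalRing.ResidueField R))) := ⟨q⟩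
  have i1 : IsProper (X ↘ Spec (CommRingCat.of R)) := ‹IsProper p›
  have i2 : Flat (X ↘ Spec (CommRingCat.of R)) := ‹Flat p›
  have i3 : LocallyOfFinitePresentation (X ↘ Spec (CommRingCat.of R)) := ‹LocallyOfFinitePresentation p›
  have i4 : DCoh.HasRpush (X ↘ Spec (CommRingCat.of R)) := ‹DCoh.HasRpush p›
  have hV : TopBC.Van R X ω := by
    intro m hm Y _ j hj n hn
    obtain rfl := IsLocalRing.eq_maximalIdeal hm
    let e : Y ≅ X₀ := hj.isoIsPullback _ _ hc
    have he : e.hom ≫ i = j := hj.isoIsPullback_hom_fst _ _ hc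
    exact K897.LiftGG.subsingleton_of_iso e he n (hv n hn)
  have hvan := TopBC.van_of_two_le R X ω hω hV
  have hfin := TopBC.finite R X ω hω hV
  obtain ⟨e⟩ := TopBC.nonempty_baseChange_equiv R X ω hω hV (IsLocalRing.ResidueField R) X₀ i hc
  intro n hn
  obtain h | rfl : 2 ≤ n ∨ n = 1 := by omega
  · have := hvan n h
    infer_instance
  · refine flat_of_finrank (e.finrank_eq.trans h1) fun a ha => ?_
    apply toGlobal_injective p
    apply eq_zero_of_smulHom hω
    refine RepUniv.eq_zero_of_HH R hRD (RepUniv.low_of_van R (Ega2.QCohLocal.isQCoh_of_isInvertible hω)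
      fun q hq => hvan q hq) _ fun x => ?_
    exact ha x

end K326.OmegaTop
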