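import Groth.Agent.CurvSt.K326.CanonField
import Groth.Agent.CurvSt.K326.CounitFibre
import Groth.Agent.CurvSt.K326.OmegaTop
import Groth.Agent.CurvSt.K900.FibTail
import Groth.Agent.CurvSt.K900.OmegaGood
import Groth.Agent.Curves.K326.GorAsm
import Groth.Agent.Picfga.LineDescent

/-!
# Powers of the relative dualizing sheaf of a prestable family near a point of the base

* `gg_of_flat`: an invertible module, globally generated on the fibre over `s`, with flat higher cohomology over
  `Spec O_{S,s}`, is globally generated over a neighbourhood of `s`.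
* `forward`, `backward`: the two directions of the equivalence "no rational tail over `s`" and "the counit
  `f^* f_* ω^m → ω^m` is an epimorphism near `s`".
-/

set_option autoImplicit false
universe u
open CategoryTheory CategoryTheory.Limits AlgebraicGeometry TopologicalSpace
attribute [local instance] HasDerivedCategory.standard

namespace K326.CanonNear

open Groth.Agent Fdesc.LocGen K682.RelDual

theorem gg_structure (X : Scheme.{u}) : Curv2.IsGloballyGenerated (Coh.structureModule X) :=
  ⟨PUnit, Limits.Sigma.desc fun _ => 𝟙 (Coh.structureModule X),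
    @epi_of_epi_fac X.Modules _ _ _ _ (Limits.Sigma.ι (fun _ : PUnit => Coh.structureModule X) PUnit.unit) _
      (𝟙 (Coh.structureModule X)) inferInstance (Limits.Sigma.ι_desc _ _)⟩

/-- The fibre as the closed fibre of the base change to the local ring. -/
theorem exists_stalk {X S : Scheme.{u}} (f : X ⟶ S) (s : S) :
    ∃ i : f.fiber s ⟶ pullback f (S.fromSpecStalk s), i ≫ pullback.fst f (S.fromSpecStalk s) = f.fiberι s ∧
      IsPullback i (f.fiberToSpecResidueField s) (pullback.snd f (S.fromSpecStalk s))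
        (Spec.map (CommRingCat.ofHom (IsLocalRing.residue (S.presheaf.stalk s)))) := by
  have H1 : IsPullback (pullback.fst f (S.fromSpecStalk s)) (pullback.snd f (S.fromSpecStalk s)) f
      (S.fromSpecStalk s) := IsPullback.of_hasPullback _ _
  have H2 : IsPullback (f.fiberι s) (f.fiberToSpecResidueField s) f
      (Spec.map (CommRingCat.ofHom (IsLocalRing.residue (S.presheaf.stalk s))) ≫ S.fromSpecStalk s) :=
    CounitFibre.isPullback_fiber f s
  exact ⟨_, H1.lift_fst _ _ _, IsPullback.of_right' H2 H1⟩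

/-- **Global generation near a fibre.** -/
theorem gg_of_flat {X S : Scheme.{u}} (f : X ⟶ S) [IsProper f] [Flat f] [LocallyOfFinitePresentation f]
    {L : X.Modules} (hL : PicF.IsInvertible L) (s : S)
    (hflat : letI : (pullback f (S.fromSpecStalk s)).Over (Spec (CommRingCat.of (S.presheaf.stalk s))) :=
        ⟨pullback.snd f (S.fromSpecStalk s)⟩
      ∀ n : ℕ, 1 ≤ n → Module.Flat (S.presheaf.stalk s)
        (Coh.HH _ ((Scheme.Modules.pullback (pullback.fst f (S.fromSpecStalk s))).obj L) n))
    (hgg : Curv2.IsGloballyGenerated ((Scheme.Modules.pullback (f.fiberι s)).obj L)) :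
    ∃ U : S.Opens, s ∈ U ∧ IsAffineOpen U ∧ Curv2.IsGloballyGenerated (L.restrict (f ⁻¹ᵁ U).ι) := by
  obtain ⟨i, hi, sq⟩ := exists_stalk f s
  obtain ⟨_, ⟨V, hV, rfl⟩, hsV, -⟩ := S.isBasis_affineOpens.exists_subset_of_mem_open
    (show s ∈ ((⊤ : S.Opens) : Set S) from trivial) (⊤ : S.Opens).2
  let g := pullback.fst f (S.fromSpecStalk s)
  let p := pullback.snd f (S.fromSpecStalk s)
  have e : (Scheme.Modules.pullback (f.fiberι s)).obj L ≅
      (Scheme.Modules.pullback i).obj ((Scheme.Modules.pullback g).obj L) :=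
    (Scheme.Modules.pullbackCongr hi.symm).app L ≪≫ ((Scheme.Modules.pullbackComp i g).app L).symm
  have hgg' := Ega2.GlobGenCrit.isGloballyGenerated_of_iso e hgg
  obtain ⟨U, hsU, hU, -, h⟩ := GGNear.gg_near f (L := L) hsV fun x hx => by
    obtain ⟨y, rfl⟩ : x ∈ Set.range (f.fiberι s) := by
      rw [Scheme.Hom.range_fiberι]
      exact hx
    obtain ⟨t', ht'⟩ := @GGNear.exists_mem_genLocus (S.presheaf.stalk s) _ inferInstance _ _ p inferInstance inferInstance
      inferInstance _ _ sq _ (isInvertible_pullback g hL) hflat hgg' y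
    obtain ⟨m, W, h, hW, hg⟩ := GGNear.near f hL hV hsV (IsPullback.of_hasPullback _ _) (i y) t' ht'
    refine ⟨m, W, h, ?_, hg⟩
    rw [← hi, Scheme.Hom.comp_apply]
    exact hW
  exact ⟨U, hsU, hU, h⟩

section

variable {X S : Scheme.{u}} (f : X ⟶ S) (g : ℕ)
    (hpre : CurvSt.IsPrestableFam f)
    (hgen : ∀ (Ω : Type u) [Field Ω] [IsAlgClosed Ω] (t : Spec (CommRingCat.of Ω) ⟶ S) (Y : Scheme.{u}) (i : Y ⟶ X)
      (q : Y ⟶ Spec (CommRingCat.of Ω)), IsPullback i q f t → Models.curveGenus Ω Y q = g)

include hpre hgen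

theorem surjective : Surjective f := by
  refine ⟨fun s => ?_⟩
  obtain ⟨-, hdim, -⟩ := K900.FibTail.fibre_facts f g hpre hgen s
  have hne : Nonempty (f.fiber s) := by
    by_contra hcon
    rw [not_nonempty_iff] at hcon
    have hbot : topologicalKrullDim (f.fiber s) = ⊥ := by
      rw [topologicalKrullDim, Order.krullDim_eq_bot_iff]
      exact ⟨fun Z => hcon.false Z.isIrreducible.nonempty.some⟩
    rw [hbot] at hdim
    exact absurd hdim (by simp)
  obtain ⟨y⟩ := hne
  exact ⟨f.fiberι s y, CounitFibre.fiberι_apply f s y⟩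

variable (hg : 1 ≤ g)
    [DCoh.HasRpush f] (h : DCoh.RpushPreservesQCoh f) [DCoh.HasShriek f h] (OS : DCoh.DQCoh S)
    (hOS : Nonempty (OS.obj ≅ DCoh.inD S (Coh.structureModule S))) (s : ↥S) (m : ℕ) (hm : 2 ≤ m)

include hOS in
theorem exists_pair :
    letI : (f.fiber s).Over (Spec (CommRingCat.of (S.residueField s))) := ⟨f.fiberToSpecResidueField s⟩
    ∃ tr : Coh.HH (f.fiber s) ((Scheme.Modules.pullback (f.fiberι s)).obj (DCoh.dualizingMod f h OS 1)) 1
      →ₗ[S.residueField s] S.residueField s, CurvesC.DualCount.IsPair (S.residueField s) tr := by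
  have hP := hpre.1
  have hGD := K900.OmegaGood.goodDual f hpre.2.1 h OS hOS
  obtain ⟨-, hdim, -⟩ := K900.FibTail.fibre_facts f g hpre hgen s
  exact hGD.pair (S.residueField s) (S.fromSpecResidueField s) (f.fiber s) (f.fiberι s)
    (f.fiberToSpecResidueField s) (CounitFibre.isPullback_fiber f s) hdim

include hg hm hOS in
/-- No rational tail over `s`: the counit at `ω^m` is an epimorphism near `s`. -/
theorem forward (hnt : ∀ (C : Set ↥(f.fiber s)) (hC : C ∈ irreducibleComponents (↥(f.fiber s) : Type u)),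
        ¬ Curv2.IsRationalTail (f.fiber s) C hC) : ∃ U : S.Opens, s ∈ U ∧
        Epi ((Scheme.Modules.restrictFunctor (f ⁻¹ᵁ U).ι).map
          ((Scheme.Modules.pullbackPushforwardAdjunction f).counit.app
            (CohB1.tensorPow (DCoh.dualizingMod f h OS 1) m))) := by
  have hP : IsProper f := hpre.1
  have hf := hpre.2.1
  have hFl : Flat f := hf.1
  have hfp : LocallyOfFinitePresentation f := hf.2.1
  have hsur := surjective f g hpre hgen
  let k := S.residueField s
  let _ : (f.fiber s).Over (Spec (CommRingCat.of (S.residueField s))) := ⟨f.fiberToSpecResidueField s⟩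
  obtain ⟨hPs, hdim, h0, hn, hgs⟩ := K900.FibTail.fibre_facts f g hpre hgen s
  have hPs' : IsProper (f.fiber s ↘ Spec (CommRingCat.of (S.residueField s))) := hPs
  let ω := DCoh.dualizingMod f h OS 1
  have hω : PicF.IsInvertible ω := (K900.OmegaGood.goodDual f hf h OS hOS).inv
  obtain ⟨tr, htr⟩ := exists_pair f g hpre hgen h OS hOS s
  let ω₀ := (Scheme.Modules.pullback (f.fiberι s)).obj ω
  have hω₀ : PicF.IsInvertible ω₀ := isInvertible_pullback _ hω
  have hmain := CanonField.main (S.residueField s) (f.fiber s) hdim h0 hn hnt hω₀ htr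
  rw [hgs] at hmain
  obtain ⟨i, hi, sq⟩ := exists_stalk f s
  have epow : ∀ L : X.Modules, (Scheme.Modules.pullback (f.fiberι s)).obj L ≅
      (Scheme.Modules.pullback i).obj ((Scheme.Modules.pullback (pullback.fst f (S.fromSpecStalk s))).obj L) :=
    fun L => (Scheme.Modules.pullbackCongr hi.symm).app L ≪≫ ((Scheme.Modules.pullbackComp i _).app L).symm
  obtain hg2 | rfl : 2 ≤ g ∨ g = 1 := by omega
  · obtain ⟨hgg, hH⟩ := hmain.2 hg2 m hm
    obtain ⟨e⟩ := Ega3B.PullTensor.nonempty_pullPowIso (f.fiberι s) hω m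
    have hgg' := Ega2.GlobGenCrit.isGloballyGenerated_of_iso e.symm hgg
    have hLm : PicF.IsInvertible (CohB1.tensorPow ω m) := isInvertible_tensorPow hω m
    have hv : ∀ n : ℕ, 1 ≤ n → Subsingleton (Coh.HH (f.fiber s) ((Scheme.Modules.pullback i).obj
        ((Scheme.Modules.pullback (pullback.fst f (S.fromSpecStalk s))).obj (CohB1.tensorPow ω m))) n) := by
      intro n hn1
      obtain h2 | rfl : 2 ≤ n ∨ n = 1 := by omega
      · exact CanonField.subsingleton_two_le (S.residueField s) (f.fiber s) hdim _ n h2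
      · exact (Fga.HShift.subsingleton_of_iso (e.symm ≪≫ epow _) 1 hH)
    have hvan := @K897.LiftGG.vanish (S.presheaf.stalk s) _ inferInstance _ _ (pullback.snd f (S.fromSpecStalk s))
      inferInstance inferInstance inferInstance _ _ sq _ (isInvertible_pullback _ hLm) hv
    obtain ⟨U, hsU, -, hU⟩ := gg_of_flat f hLm s (fun n hn1 => by
      have := hvan n hn1
      infer_instance) hgg'
    exact ⟨U, hsU, GGNear.epi_restrict f hU⟩
  · obtain ⟨e⟩ := hmain.1 rfl
    have hgg : Curv2.IsGloballyGenerated ω₀ :=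
      Ega2.GlobGenCrit.isGloballyGenerated_of_iso e.symm (gg_structure _)
    have hRp : DCoh.HasRpush (pullback.snd f (S.fromSpecStalk s)) := Groth.Agent.Dcoh.DerSch.hasRpush _
    obtain ⟨_, ⟨V, hV, rfl⟩, hsV, -⟩ := S.isBasis_affineOpens.exists_subset_of_mem_open
      (show s ∈ ((⊤ : S.Opens) : Set S) from trivial) (⊤ : S.Opens).2
    have hRD := K901.DualRel.isRD_pullback f h OS hOS 1 (K900.OmegaGood.gorDim f hf)
      (IsPullback.of_hasPullback f (S.fromSpecStalk s)) V hV fun x => by
        have h1 : S.fromSpecStalk s x ∈ Set.range (S.fromSpecStalk s) := ⟨x, rfl⟩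
        rw [Scheme.range_fromSpecStalk] at h1
        exact h1.mem_open V.2 hsV
    have hflat := @OmegaTop.flat (S.presheaf.stalk s) _ inferInstance _ _ (pullback.snd f (S.fromSpecStalk s))
      inferInstance inferInstance inferInstance inferInstance hRp _ _ sq _ (isInvertible_pullback _ hω) hRD
      (fun n hn2 => CanonField.subsingleton_two_le (S.residueField s) (f.fiber s) hdim _ n hn2)
      ((CurvesC.DegIso.finrank_congr (S.residueField s) (epow ω).symm 1).trans
        (CanonField.finrank_H1 (S.residueField s) (f.fiber s) h0 hω₀ htr))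
    obtain ⟨U, hsU, -, hU⟩ := gg_of_flat f hω s hflat hgg
    refine ⟨U, hsU, GGNear.epi_restrict f ?_⟩
    obtain ⟨e⟩ := K326.GorAsm.nonempty_restrict_tensorPow ω (f ⁻¹ᵁ U) m
    have hωU : PicF.IsInvertible (ω.restrict (f ⁻¹ᵁ U).ι) :=
      Picfga.LineDescent.isInvertible_of_iso ((Scheme.Modules.restrictFunctorIsoPullback (f ⁻¹ᵁ U).ι).app ω).symm
        (isInvertible_pullback _ hω)
    exact Ega2.GlobGenCrit.isGloballyGenerated_of_iso e.symm (CounitFibre.gg_pow hωU hU m)

include hm hOS in
/-- If the counit at `ω^m` is an epimorphism near `s` then there is no rational tail over `s`. -/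
theorem backward {U : S.Opens} (hs : s ∈ U) (hU : Epi ((Scheme.Modules.restrictFunctor (f ⁻¹ᵁ U).ι).map
          ((Scheme.Modules.pullbackPushforwardAdjunction f).counit.app
            (CohB1.tensorPow (DCoh.dualizingMod f h OS 1) m))))
    (C : Set ↥(f.fiber s)) (hC : C ∈ irreducibleComponents (↥(f.fiber s) : Type u)) :
    ¬ Curv2.IsRationalTail (f.fiber s) C hC := by
  have hP : IsProper f := hpre.1
  have hf := hpre.2.1
  have hFl : Flat f := hf.1
  have hfp : LocallyOfFinitePresentation f := hf.2.1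
  let _ : (f.fiber s).Over (Spec (CommRingCat.of (S.residueField s))) := ⟨f.fiberToSpecResidueField s⟩
  obtain ⟨hPs, hdim, h0, hn, hgs⟩ := K900.FibTail.fibre_facts f g hpre hgen s
  have hPs' : IsProper (f.fiber s ↘ Spec (CommRingCat.of (S.residueField s))) := hPs
  let ω := DCoh.dualizingMod f h OS 1
  have hω : PicF.IsInvertible ω := (K900.OmegaGood.goodDual f hf h OS hOS).inv
  obtain ⟨tr, htr⟩ := exists_pair f g hpre hgen h OS hOS s
  have hLm : PicF.IsInvertible (CohB1.tensorPow ω m) := isInvertible_tensorPow hω m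
  have hgg := CounitFibre.gg_fibre_of_epi f (Ega2.QCohLocal.isQCoh_of_isInvertible hLm) hs hU
  obtain ⟨e⟩ := Ega3B.PullTensor.nonempty_pullPowIso (f.fiberι s) hω m
  exact CanonField.not_tail_of_gg (S.residueField s) (f.fiber s) hdim h0 hn (isInvertible_pullback _ hω) htr
    (by omega) (Ega2.GlobGenCrit.isGloballyGenerated_of_iso e hgg) C hC

end

end K326.CanonNear
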