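import Groth.Agent.CurvSt.K897.LiftGG
import Groth.Agent.Fdesc.InvCx
import Groth.Agent.Ega3B.SecLiftMain
import Groth.Agent.S2406
import Groth.Agent.S2446
import Groth.Agent.Ega3A.TFunFlat

/-!
# Lifting of sections from a closed fibre when the higher cohomology is flat

`X` proper, flat and of finite presentation over an arbitrary ring `A`, `L` invertible with `H^n(X, L)` flat over `A` for
`n ≥ 1`: the sections of the pullback of `L` along a quotient of `A` lift to `X`.  No Noetherian hypothesis.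
-/

set_option autoImplicit false
universe u
open CategoryTheory CategoryTheory.Limits AlgebraicGeometry TopologicalSpace

namespace K326.FlatLift

open Groth.Agent Groth.Agent.Ega3B Groth.Agent.Ega3B.MasterAsm
open Groth.Agent.Ega3B.EqzSections Groth.Agent.Ega3B.TensorASec Groth.Agent.VarietyB Groth.Agent.Ega3B.SecLift

section Gamma

variable {A : Type u} [CommRing A] {X : Scheme.{u}} [X.Over (Spec (CommRingCat.of A))]

/-- Lifting of sections of `N ⊗ K`, `K` a quotient of `A`. -/
theorem exists_lift_gamma [IsProper (X ↘ Spec (CommRingCat.of A))] [Flat (X ↘ Spec (CommRingCat.of A))]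
    [LocallyOfFinitePresentation (X ↘ Spec (CommRingCat.of A))] (N : X.Modules) (hN : PicF.IsInvertible N)
    (hflat : ∀ n : ℕ, 1 ≤ n → Module.Flat A (Coh.HH X N n)) {K : Type u} [CommRing K] [Algebra A K]
    (hs : Function.Surjective (algebraMap A K))
    (t : Γ((CohIII.tensorAFunctor A N).obj (ModuleCat.of A K), ⊤)) :
    ∃ x : Γ((CohIII.tensorAFunctor A N).obj (ModuleCat.of A A), ⊤),
      ((CohIII.tensorAFunctor A N).map (ModuleCat.ofHom (Algebra.linearMap A K))).app ⊤ x = t := by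
  obtain ⟨P, hP, ⟨b, hb⟩, -, he⟩ := Fdesc.InvCx.exists_complex A X N hN
  have hfl : ∀ i, Module.Flat A (P.X i) := fun i => by
    have := (hP i).2
    infer_instance
  have hT : ∀ q ≤ (-1 : ℤ), Module.Flat A ((CohIII.TFun P q).obj (ModuleCat.of A A)) := by
    intro q hq
    obtain ⟨n, rfl⟩ : ∃ n : ℕ, q = -(n : ℤ) := ⟨(-q).toNat, by omega⟩
    obtain ⟨e⟩ := nonempty_homology_equiv (A := A) N P n (he n)
    have := hflat n (by omega)
    exact Module.Flat.of_linearEquiv (Ega3A.TFunFlat.TunitEquiv P (-(n : ℤ)) ≪≫ₗ e)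
  have hmono := ((S2446.result P hfl b (fun i hi => hb i hi) (-1)).2 hT (-1) le_rfl).1
  have hepi : (CohIII.TFun P 0).PreservesEpimorphisms := (S2406.result P hfl 0 (-1) (by norm_num)).2 hmono
  obtain ⟨e0⟩ := he 0
  let E : ∀ M : ModuleCat.{u} A, Γ((CohIII.tensorAFunctor A N).obj M, ⊤) ≃+
      (CohIII.TFun P (-((0 : ℕ) : ℤ))).obj M := fun M =>
    (SectExact.secEquiv ((CohIII.tensorAFunctor A N).obj M)).symm.trans
      (e0.app M).addCommGroupIsoToAddEquiv
  have hE : ∀ {M M' : ModuleCat.{u} A} (φ : M ⟶ M') (x : Γ((CohIII.tensorAFunctor A N).obj M, ⊤)),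
      E M' (((CohIII.tensorAFunctor A N).map φ).app ⊤ x) =
        ((CohIII.TFun P (-((0 : ℕ) : ℤ))).map φ).hom (E M x) := by
    intro M M' φ x
    have h1 := ConcreteCategory.congr_hom (e0.hom.naturality φ)
      ((SectExact.secEquiv ((CohIII.tensorAFunctor A N).obj M)).symm x)
    have h2 := SectExact.secEquiv_hmap ((CohIII.tensorAFunctor A N).map φ)
      ((SectExact.secEquiv ((CohIII.tensorAFunctor A N).obj M)).symm x)
    rw [AddEquiv.apply_symm_apply] at h2
    rw [← h2]
    change (e0.hom.app M').hom ((SectExact.secEquiv ((CohIII.tensorAFunctor A N).obj M')).symm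
      (SectExact.secEquiv _ _)) = _
    rw [AddEquiv.symm_apply_apply]
    exact h1
  have hepi0 : (CohIII.TFun P (-((0 : ℕ) : ℤ))).PreservesEpimorphisms := by
    have : (-((0 : ℕ) : ℤ)) = 0 := by norm_num
    rw [this]
    exact hepi
  have hφ : Epi (ModuleCat.ofHom (Algebra.linearMap A K)) := (ModuleCat.epi_iff_surjective _).2 hs
  have hsur : Function.Surjective
      ((CohIII.TFun P (-((0 : ℕ) : ℤ))).map (ModuleCat.ofHom (Algebra.linearMap A K))).hom :=
    (ModuleCat.epi_iff_surjective _).1 (hepi0.preserves _)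
  obtain ⟨y, hy⟩ := hsur (E _ t)
  refine ⟨(E _).symm y, (E _).injective ?_⟩
  rw [hE, AddEquiv.apply_symm_apply]
  exact hy

/-- Sections of the pullback of `N` to the quotient lift. -/
theorem exists_sec_lift [IsProper (X ↘ Spec (CommRingCat.of A))] [Flat (X ↘ Spec (CommRingCat.of A))]
    [LocallyOfFinitePresentation (X ↘ Spec (CommRingCat.of A))] (N : X.Modules) (hN : PicF.IsInvertible N)
    (hflat : ∀ n : ℕ, 1 ≤ n → Module.Flat A (Coh.HH X N n)) {K : Type u} [CommRing K] [Algebra A K]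
    (hs : Function.Surjective (algebraMap A K)) {Z : Scheme.{u}} {g : Z ⟶ X}
    {q : Z ⟶ Spec (CommRingCat.of K)}
    (H : IsPullback g q (X ↘ Spec (CommRingCat.of A)) (Spec.map (CommRingCat.ofHom (algebraMap A K))))
    (t0 : Γ((Scheme.Modules.pullback g).obj N, g ⁻¹ᵁ ⊤)) :
    ∃ s : Γ(N, ⊤), PullSec.sec g N (le_refl (g ⁻¹ᵁ ⊤)) s = t0 := by
  have hinf : ∀ U V : X.Opens, IsAffineOpen U → IsAffineOpen V → IsAffineOpen (U ⊓ V) := by
    intro U V hU hV
    have h1 : IsAffineHom (pullback.diagonal (X ↘ Spec (CommRingCat.of A))) := inferInstance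
    exact isAffineHom_diagonal_iff.mp h1 ⊤
      (isAffineOpen_top _) U (le_preimage_top _ _) V (le_preimage_top _ _) hU hV
  obtain ⟨a, s, ha, h⟩ := exists_sec_eq H N hinf (Ega2.QCohLocal.isQCoh_of_isInvertible hN) (⊥ : Submonoid A)
    (fun t => by
      obtain ⟨x, hx⟩ := exists_lift_gamma N hN hflat hs t
      refine ⟨1, x, Submonoid.mem_bot.2 rfl, ?_⟩
      rw [hx]
      have h1 : ((CohIII.tensorAFunctor A N).map ((1 : A) • 𝟙 (ModuleCat.of A K))) = 𝟙 _ := by
        rw [one_smul, CategoryTheory.Functor.map_id]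
      rw [h1]
      rfl) t0
  obtain rfl := Submonoid.mem_bot.1 ha
  refine ⟨s, h.trans ?_⟩
  rw [map_one]
  have h2 : secMap q (g ⁻¹ᵁ ⊤) (1 : K) = 1 := map_one _
  rw [h2, one_smul]

end Gamma

open Fdesc.LocGen (pullHom pullSec sec_pullHom homOf)

/-- Over a local ring: morphisms `O → L_0` on the closed fibre lift if the higher cohomology of `L` is flat. -/
theorem exists_hom_lift {R : Type u} [CommRing R] [IsLocalRing R] {X X₀ : Scheme.{u}} (p : X ⟶ Spec (CommRingCat.of R))
    [IsProper p] [Flat p] [LocallyOfFinitePresentation p] {i : X₀ ⟶ X}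
    {q : X₀ ⟶ Spec (CommRingCat.of (IsLocalRing.ResidueField R))}
    (hc : IsPullback i q p (Spec.map (CommRingCat.ofHom (IsLocalRing.residue R))))
    {L : X.Modules} (hL : PicF.IsInvertible L)
    (hflat : letI : X.Over (Spec (CommRingCat.of R)) := ⟨p⟩
      ∀ n : ℕ, 1 ≤ n → Module.Flat R (Coh.HH X L n))
    (s : Coh.structureModule X₀ ⟶ (Scheme.Modules.pullback i).obj L) :
    ∃ t : Coh.structureModule X ⟶ L, pullHom i t = s := by
  let _ : X.Over (Spec (CommRingCat.of R)) := ⟨p⟩
  have i1 : IsProper (X ↘ Spec (CommRingCat.of R)) := ‹IsProper p›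
  have i2 : Flat (X ↘ Spec (CommRingCat.of R)) := ‹Flat p›
  have i3 : LocallyOfFinitePresentation (X ↘ Spec (CommRingCat.of R)) := ‹LocallyOfFinitePresentation p›
  obtain ⟨m, hm⟩ := exists_sec_lift (A := R) (K := IsLocalRing.ResidueField R) L hL hflat
    IsLocalRing.residue_surjective hc (Fdesc.LocGen.sec s ⊤)
  refine ⟨homOf m, ?_⟩
  apply Fdesc.LocGen.hom_ext_sec
  have h2 := sec_pullHom i (homOf m) ⊤
  rw [Fdesc.LocGen.sec_homOf, Fdesc.LocGen.res_refl] at h2
  have h3 : VarietyB.PullSec.sec i L (le_refl (i ⁻¹ᵁ ⊤)) m = pullSec i m :=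
    Picfga.LiftFam.sec_eq_pullSec i m
  rw [h3] at hm
  exact h2.trans hm

end K326.FlatLift
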