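import Groth.Agent.CurvSt.K326.FlatLift
import Groth.Agent.FlatMor.K250.FibreLift
import Groth.Agent.Sga67.PushLocal
import Groth.Agent.Sga67.SerreVB
import Groth.Agent.Ega3B.PackageAsm

/-!
# Global generation near a fibre of a proper morphism

* `exists_mem_genLocus`: over a local ring, sections generating at the points of the closed fibre.
* `near`: a section generating at a point of `X ×_S Spec O_{S,s}` is, up to a unit, defined over `f⁻¹ V`.
* `gg_near`: if the sections over `f⁻¹ V` generate `L` at the points over `s` then `L` is globally generated over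
  `f⁻¹ U` for an affine neighbourhood `U` of `s`; `epi_near`: the counit is an epimorphism there.
-/

set_option autoImplicit false
universe u
open CategoryTheory CategoryTheory.Limits AlgebraicGeometry TopologicalSpace

namespace K326.GGNear

open Groth.Agent Fdesc.LocGen

/-- Over a local ring, with flat higher cohomology: sections generating at the points of the closed fibre. -/
theorem exists_mem_genLocus {R : Type u} [CommRing R] [IsLocalRing R] {X X₀ : Scheme.{u}}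
    (p : X ⟶ Spec (CommRingCat.of R))
    [IsProper p] [Flat p] [LocallyOfFinitePresentation p] {i : X₀ ⟶ X}
    {q : X₀ ⟶ Spec (CommRingCat.of (IsLocalRing.ResidueField R))}
    (hc : IsPullback i q p (Spec.map (CommRingCat.ofHom (IsLocalRing.residue R))))
    {L : X.Modules} (hL : PicF.IsInvertible L)
    (hflat : letI : X.Over (Spec (CommRingCat.of R)) := ⟨p⟩
      ∀ n : ℕ, 1 ≤ n → Module.Flat R (Coh.HH X L n))
    (hgg : Curv2.IsGloballyGenerated ((Scheme.Modules.pullback i).obj L)) (x : X₀) :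
    ∃ t : Coh.structureModule X ⟶ L, i x ∈ CohB1.genLocus L t := by
  have hL₀ := isInvertible_pullback i hL
  obtain ⟨s, hs⟩ := Ega1.GlobGenPt.exists_mem_genLocus hL₀ hgg x
  obtain ⟨t, rfl⟩ := FlatLift.exists_hom_lift p hc hL hflat s
  refine ⟨t, ?_⟩
  rw [Ega1.AmpFam.genLocus_pullHom i hL] at hs
  exact hs

/-- A section over a localization of the base at a prime is, up to a unit, a section. -/
theorem exists_of_loc {A : Type u} [CommRing A] (p : Ideal A) [p.IsPrime] {B : Type u} [CommRing B] [Algebra A B]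
    [IsLocalization.AtPrime B p] {X X' : Scheme.{u}} {iX : X ⟶ Spec (CommRingCat.of A)} [CompactSpace X]
    [QuasiSeparatedSpace X] {g : X' ⟶ X} {q : X' ⟶ Spec (CommRingCat.of B)}
    (H : IsPullback g q iX (Spec.map (CommRingCat.ofHom (algebraMap A B)))) {N : X.Modules}
    (hN : PicF.IsInvertible N) (x : X') (t' : Coh.structureModule X' ⟶ (Scheme.Modules.pullback g).obj N)
    (hx : x ∈ CohB1.genLocus _ t') : ∃ t : Coh.structureModule X ⟶ N, g x ∈ CohB1.genLocus N t := by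
  let e : B ≃ₐ[A] Localization.AtPrime p := IsLocalization.algEquiv p.primeCompl B (Localization.AtPrime p)
  let ε : Spec (CommRingCat.of B) ≅ Spec (CommRingCat.of (Localization.AtPrime p)) :=
    Scheme.Spec.mapIso (e.toRingEquiv.toCommRingCatIso).symm.op
  have H' : IsPullback g (q ≫ ε.hom) iX
      (Spec.map (CommRingCat.ofHom (algebraMap A (Localization.AtPrime p)))) := by
    refine IsPullback.of_iso H (Iso.refl _) (Iso.refl _) ε (Iso.refl _) ?_ ?_ ?_ ?_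
    · simp
    · simp
    · simp
    · rw [Iso.refl_hom, Category.comp_id]
      have h1 : ε.hom = Spec.map (CommRingCat.ofHom (e.symm : Localization.AtPrime p →+* B)) := rfl
      rw [h1, ← Spec.map_comp, ← CommRingCat.ofHom_comp]
      congr 2
      ext a
      simp
  obtain ⟨a, σ, ha, hσ⟩ := K250.FibreLift.exists_denominator p H' N
    (Ega2.QCohLocal.isQCoh_of_isInvertible hN) (sec t' (g ⁻¹ᵁ ⊤))
  have hu : IsUnit (Ega3B.EqzSections.secMap (q ≫ ε.hom) (g ⁻¹ᵁ ⊤)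
      (algebraMap A (Localization.AtPrime p) a)) :=
    (IsLocalization.map_units (Localization.AtPrime p) (⟨a, ha⟩ : p.primeCompl)).map _
  refine ⟨homOf σ, ?_⟩
  have h1 : x ∈ CohB1.genLocus _ (pullHom g (homOf σ)) := by
    rw [mem_genLocus_iff] at hx ⊢
    obtain ⟨W, hxW, hW⟩ := hx
    refine ⟨W, hxW, ?_⟩
    have h2 := sec_pullHom g (homOf σ) ⊤
    rw [sec_homOf, res_refl] at h2
    have hWt : W ≤ g ⁻¹ᵁ ⊤ := fun _ _ => trivial
    have h3 : sec (pullHom g (homOf σ)) W = ores hWt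
        (Ega3B.EqzSections.secMap (q ≫ ε.hom) (g ⁻¹ᵁ ⊤) (algebraMap A (Localization.AtPrime p) a)) • sec t' W := by
      have h4 : sec (pullHom g (homOf σ)) (g ⁻¹ᵁ ⊤) = Ega3B.EqzSections.secMap (q ≫ ε.hom) (g ⁻¹ᵁ ⊤)
          (algebraMap A (Localization.AtPrime p) a) • sec t' (g ⁻¹ᵁ ⊤) := h2.trans hσ
      rw [← res_sec (pullHom g (homOf σ)) hWt, h4, res_smul, res_sec]
    rw [h3]
    exact hW.unit_smul (hu.map _)
  rw [Ega1.AmpFam.genLocus_pullHom g hN] at h1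
  exact h1

theorem mem_genLocus_comp {X : Scheme.{u}} {M N : X.Modules} (t : Coh.structureModule X ⟶ M) (φ : M ⟶ N) [IsIso φ]
    {x : X} (hx : x ∈ CohB1.genLocus M t) : x ∈ CohB1.genLocus N (t ≫ φ) := by
  rw [mem_genLocus_iff] at hx ⊢
  obtain ⟨W, hxW, hW⟩ := hx
  exact ⟨W, hxW, by rw [sec_comp]; exact hW.app φ⟩

/-- A section generating at a point of `X ×_S Spec O_{S,s}` comes, up to a unit, from a section over `f⁻¹ V`. -/
theorem near {X S : Scheme.{u}} (f : X ⟶ S) [QuasiCompact f] [QuasiSeparated f] {L : X.Modules}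
    (hL : PicF.IsInvertible L) {s : S} {V : S.Opens} (hV : IsAffineOpen V) (hs : s ∈ V) {X' : Scheme.{u}}
    {g : X' ⟶ X} {p : X' ⟶ Spec (S.presheaf.stalk s)} (H : IsPullback g p f (S.fromSpecStalk s)) (x : X')
    (t' : Coh.structureModule X' ⟶ (Scheme.Modules.pullback g).obj L) (hx : x ∈ CohB1.genLocus _ t') :
    ∃ (m : Γ(L, f ⁻¹ᵁ V)) (W : X.Opens) (h : W ≤ f ⁻¹ᵁ V), g x ∈ W ∧ IsGen (res L h m) := by
  have hpb0 : IsPullback (f ⁻¹ᵁ V).ι (f ∣_ V) f V.ι := (isPullback_morphismRestrict f V).flip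
  have hpb : IsPullback (f ⁻¹ᵁ V).ι (Ega3B.PackageAsm.strMap f hV) f (hV.isoSpec.inv ≫ V.ι) := by
    refine IsPullback.of_iso hpb0 (Iso.refl _) (Iso.refl _) hV.isoSpec (Iso.refl _) ?_ ?_ ?_ ?_
    · simp
    · change (f ∣_ V) ≫ hV.isoSpec.hom = 𝟙 _ ≫ ((f ∣_ V) ≫ hV.isoSpec.hom)
      rw [Category.id_comp]
    · simp
    · simp
  let alg : Algebra Γ(S, V) (S.presheaf.stalk s) := (S.presheaf.germ V s hs).hom.toAlgebra
  have hloc : IsLocalization.AtPrime (S.presheaf.stalk s) (hV.primeIdealOf ⟨s, hs⟩).asIdeal :=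
    hV.isLocalization_stalk ⟨s, hs⟩
  have hst : S.fromSpecStalk s = Spec.map (CommRingCat.ofHom (algebraMap Γ(S, V) (S.presheaf.stalk s))) ≫
      (hV.isoSpec.inv ≫ V.ι) := by
    rw [← hV.fromSpecStalk_eq_fromSpecStalk hs]
    rfl
  rw [hst] at H
  obtain ⟨k, hk, H2⟩ : ∃ k : X' ⟶ (f ⁻¹ᵁ V).toScheme, k ≫ (f ⁻¹ᵁ V).ι = g ∧
      IsPullback k p (Ega3B.PackageAsm.strMap f hV)
        (Spec.map (CommRingCat.ofHom (algebraMap Γ(S, V) (S.presheaf.stalk s)))) :=
    ⟨_, hpb.lift_fst _ _ _, IsPullback.of_right' H hpb⟩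
  subst hk
  let j := (f ⁻¹ᵁ V).ι
  have c1 : CompactSpace (f ⁻¹ᵁ V).toScheme := isCompact_iff_compactSpace.1 (f.isCompact_preimage hV.isCompact)
  have c2 : QuasiSeparatedSpace (f ⁻¹ᵁ V).toScheme := by
    have : QuasiSeparated (Ega3B.PackageAsm.strMap f hV) := MorphismProperty.of_isPullback hpb inferInstance
    exact quasiSeparatedSpace_of_quasiSeparated (Ega3B.PackageAsm.strMap f hV)
  have hN : PicF.IsInvertible ((Scheme.Modules.pullback j).obj L) := isInvertible_pullback j hL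
  obtain ⟨t, ht⟩ := @exists_of_loc Γ(S, V) _ (hV.primeIdealOf ⟨s, hs⟩).asIdeal _ (S.presheaf.stalk s) _ alg hloc
    _ _ _ c1 c2 _ _ H2 _ hN x (t' ≫ ((Scheme.Modules.pullbackComp k j).app L).inv) (mem_genLocus_comp t' _ hx)
  let t₁ : Coh.structureModule _ ⟶ L.restrict j := t ≫ ((Scheme.Modules.restrictFunctorIsoPullback j).app L).inv
  have ht₁ : k x ∈ CohB1.genLocus _ t₁ := mem_genLocus_comp t _ ht
  obtain ⟨W₁, hxW, hW⟩ := (mem_genLocus_iff t₁ (k x)).1 ht₁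
  let m₀ : Γ(L, j ''ᵁ ⊤) := (toRestrict j).symm (sec t₁ ⊤)
  have hle : f ⁻¹ᵁ V ≤ j ''ᵁ ⊤ := (Scheme.Opens.ι_image_top _).ge
  have hle' : j ''ᵁ W₁ ≤ f ⁻¹ᵁ V := (j.image_mono le_top).trans (Scheme.Opens.ι_image_top _).le
  refine ⟨res L hle m₀, j ''ᵁ W₁, hle', ⟨k x, hxW, rfl⟩, ?_⟩
  rw [res_res]
  rw [← isGen_toRestrict_iff j]
  have h5 : toRestrict j (res L (j.image_mono le_top) m₀) = sec t₁ W₁ := by
    rw [← res_sec t₁ (le_top : W₁ ≤ ⊤)]
    rfl
  exact h5 ▸ hW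

/-- Sections over `f⁻¹ V` generating at the points over `s`: global generation near `s`. -/
theorem gg_near {X S : Scheme.{u}} (f : X ⟶ S) [IsProper f] {L : X.Modules} {s : S} {V : S.Opens} (hs : s ∈ V)
    (h : ∀ x : X, f x = s → ∃ (m : Γ(L, f ⁻¹ᵁ V)) (W : X.Opens) (h : W ≤ f ⁻¹ᵁ V), x ∈ W ∧ IsGen (res L h m)) :
    ∃ U : S.Opens, s ∈ U ∧ IsAffineOpen U ∧ U ≤ V ∧ Curv2.IsGloballyGenerated (L.restrict (f ⁻¹ᵁ U).ι) := by
  let 𝒲 : Set X.Opens := {W | ∃ (m : Γ(L, f ⁻¹ᵁ V)) (h : W ≤ f ⁻¹ᵁ V), IsGen (res L h m)}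
  let W₀ : X.Opens := sSup 𝒲
  have hZ : IsClosed (f '' (W₀ : Set X)ᶜ) := f.isClosedMap _ W₀.isOpen.isClosed_compl
  have hsZ : s ∉ f '' (W₀ : Set X)ᶜ := by
    rintro ⟨x, hx, hxs⟩
    obtain ⟨m, W, hW, hxW, hg⟩ := h x hxs
    exact hx (Opens.mem_sSup.2 ⟨W, ⟨m, hW, hg⟩, hxW⟩)
  let U₀ : S.Opens := V ⊓ ⟨(f '' (W₀ : Set X)ᶜ)ᶜ, hZ.isOpen_compl⟩
  obtain ⟨_, ⟨U, hU, rfl⟩, hsU, hUU⟩ := S.isBasis_affineOpens.exists_subset_of_mem_open
    (show s ∈ (U₀ : Set S) from ⟨hs, hsZ⟩) U₀.2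
  refine ⟨U, hsU, hU, fun y hy => (hUU hy).1, ?_⟩
  let j := (f ⁻¹ᵁ U).ι
  have key : ∀ y : (f ⁻¹ᵁ U).toScheme, ∃ t : Coh.structureModule _ ⟶ L.restrict j, y ∈ CohB1.genLocus _ t := by
    intro y
    have hyW : j y ∈ W₀ := by
      by_contra hcon
      have h1 : f (j y) ∈ U := y.2
      exact (hUU h1).2 ⟨j y, hcon, rfl⟩
    obtain ⟨W, ⟨m, hW, hg⟩, hyW'⟩ := Opens.mem_sSup.1 hyW
    have hle : j ''ᵁ ⊤ ≤ f ⁻¹ᵁ V := (Scheme.Opens.ι_image_top _).le.trans fun z hz => (hUU hz).1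
    let m₁ : Γ(L.restrict j, ⊤) := toRestrict j (res L hle m)
    refine ⟨homOf m₁, (mem_genLocus_iff _ _).2 ⟨j ⁻¹ᵁ W, hyW', ?_⟩⟩
    rw [sec_homOf]
    have h2 : res (L.restrict j) (le_top : j ⁻¹ᵁ W ≤ ⊤) m₁ =
        toRestrict j (res L (j.image_mono le_top) (res L hle m)) := res_toRestrict j _ _
    rw [h2, isGen_toRestrict_iff, res_res]
    have hle2 : j ''ᵁ (j ⁻¹ᵁ W) ≤ W := j.image_preimage_le W
    have h3 := hg.res hle2
    rwa [res_res] at h3
  choose t ht using key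
  exact VarietyB.GlobGen.isGloballyGenerated_of_cover t fun y => ⟨y, ht y⟩

/-- The counit is an epimorphism over an open over which the module is globally generated. -/
theorem epi_restrict {X S : Scheme.{u}} (f : X ⟶ S) {L : X.Modules} {U : S.Opens}
    (h : Curv2.IsGloballyGenerated (L.restrict (f ⁻¹ᵁ U).ι)) :
    Epi ((Scheme.Modules.restrictFunctor (f ⁻¹ᵁ U).ι).map
      ((Scheme.Modules.pullbackPushforwardAdjunction f).counit.app L)) :=
  Sga67.PushLocal.epi_restrict_counit (isPullback_morphismRestrict f U).flip L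
    (Sga67.SerreVB.epi_counit (f ∣_ U) h)

end K326.GGNear
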