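import Groth.Agent.CurvSt.K899.CtrD2
import Groth.Agent.CurvSt.K316.MbarAlg
import Groth.Agent.AlgSp.K594.Cover

/-!
# Glueing of stable contractions

* `resC f a p` : morphisms between the base changes of a pointed family.
* `sieve` : the sieve of all schemes over which the family has a stable contraction.
* `conFun` : the stable contractions over the sieve as a functor to the stack of stable pointed curves.
* `exists_con` : existence of the stable contraction of a prestable pointed family.
-/

set_option autoImplicit false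
set_option backward.isDefEq.respectTransparency false
set_option backward.isDefEq.respectTransparency.types false
universe u
open CategoryTheory CategoryTheory.Limits AlgebraicGeometry TopologicalSpace Opposite CurvSt

namespace K326.StabGlue

open K899.Ctr K899.Ctr.Con Groth.Agent

variable {C T : Scheme.{u}} (f : C ⟶ T) {n : ℕ} (σ : Fin n → (T ⟶ C)) (hσ : ∀ i, σ i ≫ f = 𝟙 T) (g : ℕ)

/-- The morphism between the base changes of `C`. -/
noncomputable def res {V W : Over T} (k : V ⟶ W) : pullback f V.hom ⟶ pullback f W.hom :=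
  pullback.lift (pullback.fst f V.hom) (pullback.snd f V.hom ≫ k.left) (by
    rw [pullback.condition, Category.assoc, Over.w])

@[reassoc]
theorem res_fst {V W : Over T} (k : V ⟶ W) : res f k ≫ pullback.fst f W.hom = pullback.fst f V.hom :=
  pullback.lift_fst _ _ _

@[reassoc]
theorem res_snd {V W : Over T} (k : V ⟶ W) :
    res f k ≫ pullback.snd f W.hom = pullback.snd f V.hom ≫ k.left := pullback.lift_snd _ _ _

theorem isPullback_res {V W : Over T} (k : V ⟶ W) :
    IsPullback (res f k) (pullback.snd f V.hom) (pullback.snd f W.hom) k.left := by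
  refine IsPullback.of_right ?_ (res_snd f k) (IsPullback.of_hasPullback f W.hom)
  rw [res_fst, Over.w]
  exact IsPullback.of_hasPullback f V.hom

theorem res_id (V : Over T) : res f (𝟙 V) = 𝟙 _ := by
  apply pullback.hom_ext
  · rw [res_fst, Category.id_comp]
  · rw [res_snd, Category.id_comp, Over.id_left, Category.comp_id]

theorem res_comp {V W Z : Over T} (k : V ⟶ W) (l : W ⟶ Z) : res f (k ≫ l) = res f k ≫ res f l := by
  apply pullback.hom_ext
  · rw [res_fst, Category.assoc, res_fst, res_fst]
  · rw [res_snd, Category.assoc, res_snd, res_snd_assoc, Over.comp_left]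

theorem bs_res {V W : Over T} (k : V ⟶ W) (i : Fin n) :
    bs f σ hσ V.hom i ≫ res f k = k.left ≫ bs f σ hσ W.hom i := by
  apply pullback.hom_ext
  · rw [Category.assoc, res_fst, bs_fst, Category.assoc, bs_fst, ← Category.assoc, Over.w]
  · rw [Category.assoc, res_snd, ← Category.assoc, bs_snd, Category.assoc, bs_snd, Category.id_comp, Category.comp_id]

/-- A stable contraction over `V`. -/
abbrev ConV (V : Over T) : Type (u + 1) :=
  Con (pullback.snd f V.hom) (bs f σ hσ V.hom) (bs_snd f σ hσ V.hom) g

/-- The sieve of all `V` over which there is a stable contraction. -/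
noncomputable def sieve [IsProper f] [Flat f] : Sieve (Over.mk (𝟙 T)) where
  arrows V _ := Nonempty (ConV f σ hσ g V)
  downward_closed := by
    rintro V W _ ⟨A⟩ k
    have h1 : IsProper (pullback.snd f V.hom) := inferInstance
    have h2 : Flat (pullback.snd f V.hom) := inferInstance
    exact ⟨A.baseChange (isPullback_res f k) (bs_snd f σ hσ W.hom) (bs_res f σ hσ k)⟩

variable {f σ hσ g}

theorem sieve_mem [IsProper f] [Flat f] (hpre : IsPrestablePtdFam f σ hσ g) (hg : 3 ≤ 2 * g + n) :
    sieve f σ hσ g ∈ QuotSh.J Scheme.fppfPrecoverage T (Over.mk (𝟙 T)) := by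
  choose V a ha1 ha2 v hv hC using fun t : T => K899.Ctr.exists_con hpre hg t
  have hfam : K594.Cover.Fam (S := T) (T := Over.mk (𝟙 T)) (ι := T) (V := fun t => Over.mk (a t))
      (fun t => Over.homMk (a t) (by simp)) :=
    { flat := fun t => ha1 t
      lfp := fun t => ha2 t
      surj := fun t => ⟨t, v t, hv t⟩ }
  refine GrothendieckTopology.superset_covering _ ?_ hfam.mem
  rw [Sieve.ofArrows, Sieve.generate_le_iff]
  rintro _ _ ⟨t⟩
  exact hC t

section Fun

variable [IsProper f] [Flat f]

/-- The chosen contraction. -/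
noncomputable def con (V : (Stk.sieveCat (sieve f σ hσ g)).obj) : ConV f σ hσ g V.obj.left :=
  Classical.choice V.property

theorem con_proper (V : (Stk.sieveCat (sieve f σ hσ g)).obj) : IsProper (con V).γ :=
  Con.proper_γ (con V)

theorem con_ext (V : (Stk.sieveCat (sieve f σ hσ g)).obj) {Z : Scheme.{u}} {a b : (con V).C₁ ⟶ Z}
    (h : (con V).γ ≫ a = (con V).γ ≫ b) : a = b := by
  have := con_proper V
  exact (con V).ctr.hom_ext h

variable (hpre : IsPrestablePtdFam f σ hσ g) (hg : 3 ≤ 2 * g + n)

include hpre hg in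
theorem exists_con_top {V W : (Stk.sieveCat (sieve f σ hσ g)).obj} (k : V ⟶ W) :
    ∃ top : (con V).C₁ ⟶ (con W).C₁, (con V).γ ≫ top = res f k.hom.left ≫ (con W).γ ∧
      IsPullback top (con V).g₁ (con W).g₁ k.hom.left.left :=
  Con.exists_top (isPullback_res f k.hom.left) (bs_res f σ hσ k.hom.left)
    (prestable_baseChange (IsPullback.of_hasPullback f W.obj.left.hom) (bs_fst f σ hσ _) hpre) hg (con W) (con V)

/-- The transition morphisms. -/
noncomputable def conTop {V W : (Stk.sieveCat (sieve f σ hσ g)).obj} (k : V ⟶ W) : (con V).C₁ ⟶ (con W).C₁ :=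
  (exists_con_top hpre hg k).choose

theorem conTop_fac {V W : (Stk.sieveCat (sieve f σ hσ g)).obj} (k : V ⟶ W) :
    (con V).γ ≫ conTop hpre hg k = res f k.hom.left ≫ (con W).γ := (exists_con_top hpre hg k).choose_spec.1

theorem conTop_cart {V W : (Stk.sieveCat (sieve f σ hσ g)).obj} (k : V ⟶ W) :
    IsPullback (conTop hpre hg k) (con V).g₁ (con W).g₁ k.hom.left.left := (exists_con_top hpre hg k).choose_spec.2

/-- The object of the stack attached to a chosen contraction. -/
noncomputable def conObj (V : (Stk.sieveCat (sieve f σ hσ g)).obj) : (Mbar T g n).obj where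
  obj :=
    { base := V.obj.left
      C := (con V).C₁
      f := (con V).g₁
      sect := fun i => bs f σ hσ V.obj.left.hom i ≫ (con V).γ
      sect_f := fun i => by rw [Category.assoc, (con V).w, bs_snd] }
  property := (con V).st

/-- The stable contractions as a functor on the sieve. -/
noncomputable def conFun : Stk.sieveCat (sieve f σ hσ g) ⥤ᵇ Mbar T g n where
  toFunctor :=
    { obj := fun V => conObj V
      map := fun {V W} k => ObjectProperty.homMk
        { base := k.hom.left
          top := conTop hpre hg k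
          cart := conTop_cart hpre hg k
          w_sect := fun i => by
            change (bs f σ hσ V.obj.left.hom i ≫ (con V).γ) ≫ conTop hpre hg k =
              k.hom.left.left ≫ bs f σ hσ W.obj.left.hom i ≫ (con W).γ
            rw [Category.assoc, conTop_fac, ← Category.assoc, bs_res, Category.assoc] }
      map_id := fun V => by
        apply ObjectProperty.hom_ext
        apply PtFamObj.hom_ext
        · rfl
        · apply con_ext V
          change (con V).γ ≫ conTop hpre hg (𝟙 V) = (con V).γ ≫ 𝟙 _
          rw [conTop_fac, Category.comp_id]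
          change res f (𝟙 V.obj.left) ≫ _ = _
          rw [res_id, Category.id_comp]
      map_comp := fun {V W Z} k l => by
        apply ObjectProperty.hom_ext
        apply PtFamObj.hom_ext
        · rfl
        · apply con_ext V
          change (con V).γ ≫ conTop hpre hg (k ≫ l) = (con V).γ ≫ conTop hpre hg k ≫ conTop hpre hg l
          rw [conTop_fac, ← Category.assoc, conTop_fac, Category.assoc, conTop_fac]
          change res f (k.hom.left ≫ l.hom.left) ≫ _ = _
          rw [res_comp, Category.assoc] }
  w := rfl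

end Fun

section Glue

variable [IsProper f] [Flat f] (hpre : IsPrestablePtdFam f σ hσ g) (hg : 3 ≤ 2 * g + n)

/-- The object over the sieve of an arrow. -/
noncomputable abbrev sOf (V : Over T) (k : V ⟶ Over.mk (𝟙 T)) (h : Nonempty (ConV f σ hσ g V)) :
    (Stk.sieveCat (sieve f σ hσ g)).obj := ⟨Over.mk k, h⟩

include hpre hg in
/-- **Effectivity.**  The stable contractions over the sieve come from a stable family over `T`. -/
theorem exists_family :
    ∃ (ξ : (Mbar T g n).obj) (t : ∀ V : (Stk.sieveCat (sieve f σ hσ g)).obj, conObj V ⟶ ξ),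
      IsIso ξ.obj.base.hom ∧
        ∀ (V W : (Stk.sieveCat (sieve f σ hσ g)).obj) (k : V ⟶ W), (conFun hpre hg).map k ≫ t W = t V := by
  have hst := (K316.MbarAlg.isAlgStack_mbar T hg).isStack.2 (sieve f σ hσ g) (sieve_mem hpre hg)
  have hes : (Stk.resSieve (sieve f σ hσ g) (Mbar T g n)).IsEquivalence := hst
  obtain ⟨H, ⟨e⟩⟩ := hes.essSurj.mem_essImage (conFun hpre hg)
  let U : Over T := Over.mk (𝟙 T)
  let ξ : (Mbar T g n).obj := H.obj (Over.mk (𝟙 U))
  have hξ : ξ.obj.base = U := H.w_obj (Over.mk (𝟙 U))
  let e' : (Stk.resSieve (sieve f σ hσ g) (Mbar T g n)).obj H ⟶ conFun hpre hg := e.hom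
  let e'' : conFun hpre hg ⟶ (Stk.resSieve (sieve f σ hσ g) (Mbar T g n)).obj H := e.inv
  refine ⟨ξ, fun V => e''.app V ≫ H.map (Over.homMk V.obj.hom : V.obj ⟶ Over.mk (𝟙 U)), ?_, ?_⟩
  · rw [hξ]
    change IsIso (𝟙 T)
    infer_instance
  · intro V W k
    have h1 : (conFun hpre hg).map k ≫ e''.app W = e''.app V ≫ H.map k.hom := e''.naturality k
    rw [← Category.assoc, h1, Category.assoc, ← H.map_comp]
    congr 2
    apply Over.OverMorphism.ext
    exact Over.w k.hom

include hpre hg in
/-- **Existence of the stable contraction** of a prestable pointed family. -/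
theorem exists_con : Nonempty (Con f σ hσ g) := by
  obtain ⟨ξ, t, hξ, ht⟩ := exists_family hpre hg
  obtain ⟨ι, V, a, ha, hV⟩ := K594.Cover.exists_fam_of_mem (sieve_mem hpre hg)
  let g' : ξ.obj.C ⟶ T := ξ.obj.f ≫ ξ.obj.base.hom
  have hg' : IsPullback (𝟙 ξ.obj.C) ξ.obj.f g' ξ.obj.base.hom := IsPullback.of_horiz_isIso ⟨by simp [g']⟩
  -- the transition squares
  have hsq : ∀ W : (Stk.sieveCat (sieve f σ hσ g)).obj,
      IsPullback (t W).hom.top (con W).g₁ g' W.obj.left.hom := by
    intro W
    have h1 := (t W).hom.cart.paste_horiz hg'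
    rw [Category.comp_id, Over.w] at h1
    exact h1
  have htop : ∀ (W Z : (Stk.sieveCat (sieve f σ hσ g)).obj) (k : W ⟶ Z),
      (con W).γ ≫ (t W).hom.top = res f k.hom.left ≫ (con Z).γ ≫ (t Z).hom.top := by
    intro W Z k
    have h1 := congrArg (fun φ => φ.hom.top) (ht W Z k)
    change conTop hpre hg k ≫ (t Z).hom.top = (t W).hom.top at h1
    rw [← h1, ← Category.assoc, conTop_fac, Category.assoc]
  -- the members of the covering
  let W : ∀ i, (Stk.sieveCat (sieve f σ hσ g)).obj := fun i => sOf (V i) (a i) (hV i)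
  -- glue `γ`
  have hfam : K594.Cover.Fam (S := T) (T := Over.mk f)
      (V := fun i => Over.mk (pullback.fst f (V i).hom ≫ f)) (fun i => Over.homMk (pullback.fst f (V i).hom) rfl) :=
    { flat := fun i => by
        have h1 : Flat (V i).hom := by
          have h2 := ha.flat i
          have h3 : (a i).left = (V i).hom := by simpa using Over.w (a i)
          rwa [h3] at h2
        exact inferInstanceAs (Flat (pullback.fst f (V i).hom))
      lfp := fun i => by
        have h1 : LocallyOfFinitePresentation (V i).hom := by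
          have h2 := ha.lfp i
          have h3 : (a i).left = (V i).hom := by simpa using Over.w (a i)
          rwa [h3] at h2
        exact inferInstanceAs (LocallyOfFinitePresentation (pullback.fst f (V i).hom))
      surj := fun c => by
        obtain ⟨i, v, hv⟩ := ha.surj (f c)
        have h3 : (a i).left = (V i).hom := by simpa using Over.w (a i)
        rw [h3] at hv
        obtain ⟨z, hz, -⟩ := Scheme.Pullback.exists_preimage_pullback c v hv.symm
        exact ⟨i, z, hz⟩ }
  have hover : ∀ i, ((con (W i)).γ ≫ (t (W i)).hom.top) ≫ g' = pullback.fst f (V i).hom ≫ f := by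
    intro i
    rw [Category.assoc, (hsq (W i)).w, ← Category.assoc, (con (W i)).w]
    exact pullback.condition.symm
  let x : ∀ i, ((AlgSp.yon T).obj (Over.mk g')).obj.obj (op (Over.mk (pullback.fst f (V i).hom ≫ f))) :=
    fun i => ⟨Over.homMk ((con (W i)).γ ≫ (t (W i)).hom.top) (hover i)⟩
  obtain ⟨c', hc', -⟩ := hfam.glue ((AlgSp.yon T).obj (Over.mk g')) x (by
    intro i j Z p q hpq
    apply ULift.ext
    apply Over.OverMorphism.ext
    change p.left ≫ (con (W i)).γ ≫ (t (W i)).hom.top = q.left ≫ (con (W j)).γ ≫ (t (W j)).hom.top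
    have hpq' : p.left ≫ pullback.fst f (V i).hom = q.left ≫ pullback.fst f (V j).hom :=
      congrArg (fun φ => φ.left) hpq
    have hp0 : (p.left ≫ pullback.snd f (V i).hom) ≫ (V i).hom = Z.hom := by
      rw [Category.assoc, ← pullback.condition]
      exact Over.w p
    have hq0 : (q.left ≫ pullback.snd f (V j).hom) ≫ (V j).hom = Z.hom := by
      rw [Category.assoc, ← pullback.condition]
      exact Over.w q
    let k : Z ⟶ V i := Over.homMk (p.left ≫ pullback.snd f (V i).hom) hp0
    let l : Z ⟶ V j := Over.homMk (q.left ≫ pullback.snd f (V j).hom) hq0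
    have hkl : k ≫ a i = l ≫ a j := by
      apply Over.OverMorphism.ext
      have h3 : (a i).left = (V i).hom := by simpa using Over.w (a i)
      have h4 : (a j).left = (V j).hom := by simpa using Over.w (a j)
      rw [Over.comp_left, Over.comp_left, h3, h4]
      exact hp0.trans hq0.symm
    have hZ : Nonempty (ConV f σ hσ g Z) := (sieve f σ hσ g).downward_closed (hV i) k
    let WZ : (Stk.sieveCat (sieve f σ hσ g)).obj := sOf Z (k ≫ a i) hZ
    let k' : WZ ⟶ W i := ObjectProperty.homMk (Over.homMk k rfl)
    let l' : WZ ⟶ W j := ObjectProperty.homMk (Over.homMk l hkl.symm)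
    -- the tautological section
    let s : Z.left ⟶ pullback f Z.hom := pullback.lift (p.left ≫ pullback.fst f (V i).hom) (𝟙 _) (by
      rw [Category.assoc, Category.id_comp]
      exact Over.w p)
    have hsk : s ≫ res f k = p.left := by
      apply pullback.hom_ext
      · rw [Category.assoc, res_fst, pullback.lift_fst]
      · rw [Category.assoc, res_snd, ← Category.assoc, pullback.lift_snd, Category.id_comp]
        rfl
    have hsl : s ≫ res f l = q.left := by
      apply pullback.hom_ext
      · rw [Category.assoc, res_fst, pullback.lift_fst, hpq']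
      · rw [Category.assoc, res_snd, ← Category.assoc, pullback.lift_snd, Category.id_comp]
        rfl
    have h5 := htop WZ (W i) k'
    have h6 := htop WZ (W j) l'
    have h7 : s ≫ (con WZ).γ ≫ (t WZ).hom.top = p.left ≫ (con (W i)).γ ≫ (t (W i)).hom.top := by
      rw [h5]
      change s ≫ res f k ≫ _ = _
      rw [← Category.assoc, hsk]
    have h8 : s ≫ (con WZ).γ ≫ (t WZ).hom.top = q.left ≫ (con (W j)).γ ≫ (t (W j)).hom.top := by
      rw [h6]
      change s ≫ res f l ≫ _ = _
      rw [← Category.assoc, hsl]
    rw [← h7, ← h8])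
  let c : C ⟶ ξ.obj.C := c'.down.left
  have hc : c ≫ g' = f := Over.w c'.down
  have hfac : ∀ i, pullback.fst f (V i).hom ≫ c = (con (W i)).γ ≫ (t (W i)).hom.top := fun i =>
    congrArg (fun y => y.down.left) (hc' i)
  have hsq2 : ∀ i, IsPullback (pullback.fst f (V i).hom) (con (W i)).γ c (t (W i)).hom.top := by
    intro i
    refine IsPullback.of_bot (h₃₁ := (V i).hom) (v₂₁ := (con (W i)).g₁) (v₂₂ := g') ?_ (hfac i) (hsq (W i))
    rw [hc, (con (W i)).w]
    exact IsPullback.of_hasPullback f (V i).hom
  -- the sections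
  have hsec : ∀ i, σ i ≫ c = inv ξ.obj.base.hom ≫ ξ.obj.sect i := by
    intro i
    have h1 : (σ i ≫ c) ≫ g' = 𝟙 T := by rw [Category.assoc, hc, hσ]
    have h2 : (inv ξ.obj.base.hom ≫ ξ.obj.sect i) ≫ g' = 𝟙 T := by
      change (inv ξ.obj.base.hom ≫ ξ.obj.sect i) ≫ ξ.obj.f ≫ ξ.obj.base.hom = 𝟙 T
      rw [Category.assoc, ← Category.assoc (ξ.obj.sect i), ξ.obj.sect_f, Category.id_comp, IsIso.inv_hom_id]
    let y₁ : ((AlgSp.yon T).obj (Over.mk g')).obj.obj (op (Over.mk (𝟙 T))) := ⟨Over.homMk (σ i ≫ c) h1⟩
    let y₂ : ((AlgSp.yon T).obj (Over.mk g')).obj.obj (op (Over.mk (𝟙 T))) :=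
      ⟨Over.homMk (inv ξ.obj.base.hom ≫ ξ.obj.sect i) h2⟩
    have h3 : y₁ = y₂ := by
      refine ha.ext ((AlgSp.yon T).obj (Over.mk g')) fun j => ?_
      apply ULift.ext
      apply Over.OverMorphism.ext
      change (a j).left ≫ σ i ≫ c = (a j).left ≫ inv ξ.obj.base.hom ≫ ξ.obj.sect i
      have h4 : (a j).left = (V j).hom := by simpa using Over.w (a j)
      have h5 := (t (W j)).hom.w_sect i
      change (bs f σ hσ (V j).hom i ≫ (con (W j)).γ) ≫ (t (W j)).hom.top =
        (t (W j)).hom.base.left ≫ ξ.obj.sect i at h5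
      rw [Category.assoc, ← hfac, ← Category.assoc, bs_fst] at h5
      have h6 : (t (W j)).hom.base.left ≫ ξ.obj.base.hom = (V j).hom := Over.w (t (W j)).hom.base
      rw [h4, ← Category.assoc, h5]
      conv_rhs => rw [← h6]
      rw [Category.assoc, IsIso.hom_inv_id_assoc]
    exact congrArg (fun y => y.down.left) h3
  have hstab : IsStableFam g' (fun i => σ i ≫ c)
      (fun i => (Category.assoc _ _ _).trans ((congrArg (fun x => σ i ≫ x) hc).trans (hσ i))) g := by
    refine K508.SmLocus.isStableFam_of_isPullback _ ξ.property (a := 𝟙 _) (b := inv ξ.obj.base.hom)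
      (IsPullback.of_horiz_isIso ⟨by simp [g']⟩) fun i => ?_
    rw [Category.comp_id, hsec]
  have hprop : IsProper g' := hstab.2.1
  have hcp : IsProper c := by
    have : IsProper (c ≫ g') := by rw [hc]; infer_instance
    exact IsProper.of_comp c g'
  refine ⟨⟨ξ.obj.C, g', c, hc, ?_, hstab⟩⟩
  refine isCtr_of_cover (g := g') fun y => ?_
  obtain ⟨i, v, hv⟩ := ha.surj y
  have h3 : (a i).left = (V i).hom := by simpa using Over.w (a i)
  have h4 : Flat (V i).hom := by
    have h2 := ha.flat i
    rwa [h3] at h2
  have h5 : LocallyOfFinitePresentation (V i).hom := by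
    have h2 := ha.lfp i
    rwa [h3] at h2
  rw [h3] at hv
  exact ⟨_, _, _, (V i).hom, h4, h5, v, (con (W i)).γ, (con (W i)).g₁, (t (W i)).hom.top, pullback.fst f (V i).hom, hv,
    hsq (W i), hsq2 i, (con (W i)).ctr⟩

end Glue

end K326.StabGlue
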