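import Groth.Agent.Fdesc.InvCx
import Groth.Agent.Dcoh.FibVan304
import Groth.Agent.CurvesB.GenFibre
import Groth.Agent.AbSch.K449.FibVan

/-!
# `H¹` of an invertible module commutes with base change when the fibres have no higher cohomology

`X` proper, flat, locally of finite presentation over `Spec A`, `A` arbitrary, `L` invertible with
`H^q(X ×_A A/m, L) = 0` for all `q ≥ 2` and all maximal ideals `m`: then `H^q(X, L) = 0` for `q ≥ 2`, `H¹(X, L)` is of
finite presentation and commutes with arbitrary base change.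
-/

set_option autoImplicit false
universe u

open CategoryTheory CategoryTheory.Limits AlgebraicGeometry Opposite TopologicalSpace MonoidalCategory

open scoped TensorProduct

namespace K326.TopBC

open Groth.Agent Groth.Agent.CurvesB.FreeHOne Groth.Agent.Ega3A.TFunBasic Groth.Agent.Ega3A.TFunFlat
  Groth.Agent.Ega3A.TFunTensor Groth.Agent.Dcoh.FibVan304 Groth.Agent.Ega3B.MasterAsm

section Alg

variable {A : Type u} [CommRing A] (P : ChainComplex (ModuleCat.{u} A) ℤ)
    (hP : ∀ i, Module.Finite A (P.X i) ∧ Module.Projective A (P.X i))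
    (b : ℤ) (hb : ∀ i, i < b → IsZero (P.X i))
    (h : ∀ m : Ideal A, m.IsMaximal → ∀ i ≤ (-2 : ℤ), IsZero (CohIII.T P i (ModuleCat.of A (A ⧸ m))))

include hP hb h

theorem isZero_homology (i : ℤ) (hi : i ≤ -2) : IsZero (P.homology i) :=
  exact_of_function_exact P (i + 1) i (i - 1) rfl (by ring)
    (step' P hP i (fun m hm => h m hm i hi) (hasRet P hP b hb h i (by omega))).1

theorem flat_opcycles : Module.Flat A (P.opcycles (-1 - 1)) := by
  refine Groth.Agent.Ega3B.SplitCx.flat_opcycles_of_flat_homology P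
    (fun i => ⟨(hP i).1, have := (hP i).2; inferInstance⟩) b hb (-2) (fun j hj => ?_) (-1 - 1) (by omega)
  have : Subsingleton (P.homology j) :=
    ModuleCat.subsingleton_of_isZero (isZero_homology P hP b hb h j hj)
  infer_instance

/-- `T_{-1} ≅ H_{-1}(P) ⊗ -`. -/
theorem exists_iso : Nonempty (CohIII.TFun P (-1) ≅ tensorLeft (P.homology (-1))) := by
  have := (hP (-1 - 1)).2
  have := flat_opcycles P hP b hb h
  obtain ⟨e⟩ := exists_iso_tensorLeft P (-1) (-1 - 1) ((ComplexShape.down ℤ).next_eq' (by simp))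
    ((ComplexShape.down ℤ).prev_eq' (by simp))
  exact ⟨e ≪≫ (tensoringLeft _).mapIso (kerObjIso P (-1) (-1 - 1) (by ring))⟩

theorem finite_homology : Module.Finite A (P.homology (-1)) := by
  obtain ⟨r, hr⟩ := hasRet P hP b hb h (-1) le_rfl
  have := (hP (-1)).1
  have hrs : Function.Surjective r := fun z => ⟨z, LinearMap.congr_fun hr z⟩
  have hZf : Module.Finite A (LinearMap.ker (P.d (-1) (-1 - 1)).hom) := Module.Finite.of_surjective r hrs
  have hgf : (P.d (-1) (-1 - 1)).hom ∘ₗ (P.d 0 (-1)).hom = 0 := by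
    rw [← ModuleCat.hom_comp, P.d_comp_d]; rfl
  obtain ⟨e⟩ := homology_linearEquiv P 0 (-1) (-1 - 1) rfl rfl
    ((P.d 0 (-1)).hom.codRestrict _ (fun x => LinearMap.congr_fun hgf x)) (fun x => rfl)
  exact Module.Finite.equiv e.symm

end Alg

section Main

variable (A : Type u) [CommRing A] (X : Scheme.{u}) [X.Over (Spec (CommRingCat.of A))]

/-- No cohomology in degrees `≥ 2` on the fibres over closed points. -/
def Van (L : X.Modules) : Prop :=
  ∀ (m : Ideal A) [m.IsMaximal] (Y : Scheme.{u}) [Y.Over (Spec (CommRingCat.of (A ⧸ m)))]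
      (j : Y ⟶ X) (_ : IsPullback j (Y ↘ Spec (CommRingCat.of (A ⧸ m)))
        (X ↘ Spec (CommRingCat.of A)) (Spec.map (CommRingCat.ofHom (Ideal.Quotient.mk m)))),
      ∀ q : ℕ, 2 ≤ q → Subsingleton (Coh.HH Y ((Scheme.Modules.pullback j).obj L) q)

variable [IsProper (X ↘ Spec (CommRingCat.of A))] [Flat (X ↘ Spec (CommRingCat.of A))]
    [LocallyOfFinitePresentation (X ↘ Spec (CommRingCat.of A))] (L : X.Modules)
    (hL : PicF.IsInvertible L) (hV : Van A X L)

include hL hV

theorem exists_complex : ∃ P : ChainComplex (ModuleCat.{u} A) ℤ,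
      (∀ i, Module.Finite A (P.X i) ∧ Module.Projective A (P.X i)) ∧
      (∃ b : ℤ, (∀ i, i < b → IsZero (P.X i)) ∧
        ∀ m : Ideal A, m.IsMaximal → ∀ i ≤ (-2 : ℤ), IsZero (CohIII.T P i (ModuleCat.of A (A ⧸ m)))) ∧
      ∀ p : ℕ, Nonempty (CohIII.tensorAFunctor A L ⋙ CohIII.HAb X p ≅
        CohIII.TFun P (-(p : ℤ)) ⋙ forget₂ (ModuleCat.{u} A) AddCommGrpCat.{u}) := by
  have i1 : CompactSpace X := QuasiCompact.compactSpace_of_compactSpace (X ↘ Spec (CommRingCat.of A))
  obtain ⟨P, hP, ⟨b, hb⟩, hpos, hε⟩ := Fdesc.InvCx.exists_complex A X L hL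
  have hq : Coh.IsQCoh L := Ega2.QCohLocal.isQCoh_of_isInvertible hL
  refine ⟨P, hP, ⟨b, hb, fun m hm i hi => ?_⟩, hε⟩
  obtain ⟨q, rfl⟩ : ∃ q : ℕ, i = -(q : ℤ) := ⟨(-i).toNat, by omega⟩
  let Y : Scheme.{u} := pullback (X ↘ Spec (CommRingCat.of A))
    (Spec.map (CommRingCat.ofHom (Ideal.Quotient.mk m)))
  let iY : Y.Over (Spec (CommRingCat.of (A ⧸ m))) := ⟨pullback.snd _ _⟩
  have H : IsPullback (pullback.fst _ _) (Y ↘ Spec (CommRingCat.of (A ⧸ m)))
      (X ↘ Spec (CommRingCat.of A)) (Spec.map (CommRingCat.ofHom (Ideal.Quotient.mk m))) :=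
    IsPullback.of_hasPullback _ _
  obtain ⟨E, -⟩ := CurvesB.GenFibre.exists_addEquiv (Ideal.Quotient.mk m) _ H L hq _
    (Iso.refl _) q (CohIII.TFun P (-(q : ℤ))) (hε q)
  have h3 := hV m Y _ H q (by omega)
  have h4 : Subsingleton ((CohIII.TFun P (-(q : ℤ))).obj
      ((ModuleCat.restrictScalars (Ideal.Quotient.mk m)).obj (ModuleCat.of (A ⧸ m) (A ⧸ m)))) :=
    E.toEquiv.subsingleton
  exact IsZero.of_iso (ModuleCat.isZero_of_subsingleton _)
    ((CohIII.TFun P (-(q : ℤ))).mapIso (K449.FibVan.kap m))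

theorem van_of_two_le (q : ℕ) (hq : 2 ≤ q) : Subsingleton (Coh.HH X L q) := by
  obtain ⟨P, hP, ⟨b, hb, h⟩, hε⟩ := exists_complex A X L hL hV
  obtain ⟨e⟩ := nonempty_homology_equiv (A := A) L P q (hε q)
  have : Subsingleton (P.homology (-(q : ℤ))) :=
    ModuleCat.subsingleton_of_isZero (isZero_homology P hP b hb h (-(q : ℤ)) (by omega))
  exact e.symm.toEquiv.subsingleton

theorem finite : Module.Finite A (Coh.HH X L 1) := by
  obtain ⟨P, hP, ⟨b, hb, h⟩, hε⟩ := exists_complex A X L hL hV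
  obtain ⟨e⟩ := nonempty_homology_equiv (A := A) L P 1 (hε 1)
  have h1 : Module.Finite A (P.homology (-((1 : ℕ) : ℤ))) := finite_homology P hP b hb h
  exact Module.Finite.equiv e

theorem nonempty_baseChange_equiv (B : Type u) [CommRing B] [Algebra A B] (Y : Scheme.{u})
    [Y.Over (Spec (CommRingCat.of B))]
    (j : Y ⟶ X) (H : IsPullback j (Y ↘ Spec (CommRingCat.of B)) (X ↘ Spec (CommRingCat.of A))
      (Spec.map (CommRingCat.ofHom (algebraMap A B)))) :
    Nonempty (B ⊗[A] Coh.HH X L 1 ≃ₗ[B] Coh.HH Y ((Scheme.Modules.pullback j).obj L) 1) := by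
  obtain ⟨P, hP, ⟨b, hb, h⟩, hε⟩ := exists_complex A X L hL hV
  obtain ⟨ν⟩ := exists_iso P hP b hb h
  have hε1 : Nonempty (CohIII.tensorAFunctor A L ⋙ CohIII.HAb X 1 ≅
      CohIII.TFun P (-1) ⋙ forget₂ (ModuleCat.{u} A) AddCommGrpCat.{u}) := hε 1
  obtain ⟨e1⟩ : Nonempty (P.homology (-1) ≃ₗ[A] Coh.HH X L 1) :=
    nonempty_homology_equiv (A := A) L P 1 (hε 1)
  have hcp : CompactSpace X := QuasiCompact.compactSpace_of_compactSpace (X ↘ Spec (CommRingCat.of A))
  have hq : Coh.IsQCoh L := Ega2.QCohLocal.isQCoh_of_isInvertible hL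
  obtain ⟨E, hE⟩ := CurvesB.GenFibre.exists_addEquiv (algebraMap A B) j H L hq _
      (Iso.refl _) 1 (CohIII.TFun P (-1)) hε1
  let RB : ModuleCat.{u} A := (ModuleCat.restrictScalars (algebraMap A B)).obj (ModuleCat.of B B)
  let N : ModuleCat.{u} A := P.homology (-1)
  -- the underlying `A`-module of `B`
  let c : B ≃ₗ[A] RB :=
    { toFun := fun x => x
      invFun := fun x => x
      left_inv := fun _ => rfl
      right_inv := fun _ => rfl
      map_add' := fun _ _ => rfl
      map_smul' := fun a x => by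
        change (a • x : B) = algebraMap A B a * x
        exact Algebra.smul_def a x }
  let t : B ⊗[A] N ≃ₗ[A] (MonoidalCategory.tensorLeft N).obj RB :=
    (TensorProduct.comm A B N) ≪≫ₗ (TensorProduct.congr (LinearEquiv.refl A N) c)
  have ht : ∀ (β : B) (z : B ⊗[A] N), t (β • z) =
      ((MonoidalCategory.tensorLeft N).map ((ModuleCat.restrictScalars (algebraMap A B)).map
        (β • 𝟙 (ModuleCat.of B B)))).hom (t z) := by
    intro β z
    induction z using TensorProduct.induction_on with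
    | zero => simp
    | add x y hx hy => rw [smul_add, map_add, hx, hy, map_add, map_add]
    | tmul x y => rfl
  let E' : B ⊗[A] N ≃+ Coh.HH Y ((Scheme.Modules.pullback j).obj L) 1 :=
    (t.toAddEquiv.trans (ν.app RB).symm.toLinearEquiv.toAddEquiv).trans E
  have hE' : ∀ (β : B) (z : B ⊗[A] N), E' (β • z) = β • E' z := by
    intro β z
    change E ((ν.inv.app RB).hom (t (β • z))) = β • E ((ν.inv.app RB).hom (t z))
    rw [ht, ← hE]
    congr 1
    have h := ν.inv.naturality ((ModuleCat.restrictScalars (algebraMap A B)).map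
        (β • 𝟙 (ModuleCat.of B B)))
    exact congr(($h).hom (t z))
  let E'' : B ⊗[A] N ≃ₗ[B] Coh.HH Y ((Scheme.Modules.pullback j).obj L) 1 :=
    { E' with map_smul' := hE' }
  exact ⟨(e1.symm.baseChange A B _ _) ≪≫ₗ E''⟩

end Main

end K326.TopBC
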